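import Groth.Agent.AGF.K497.GM
import Groth.Agent.AGF.K493.URad

/-!
# Unipotent radicals of subgroups, and the action on algebras

* `psub_eq_ptsSub`: the two descriptions of the rational points of a subgroup agree;
* `isURadIn_psub`: the points of the unipotent radical of a smooth closed subgroup;
* `unip_psub`, `smooth_of_uRad`, `isAffine_of_uRad`;
* `mem_fixA_iff`: the invariants of a subgroup in an algebra.
-/

set_option autoImplicit false

universe u v

open CategoryTheory MonoidalCategory CartesianMonoidalCategory MonObj GrpObj AlgebraicGeometry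
open scoped TensorProduct

namespace K497.URadPt

open Groth.Agent.Books.AffBridge Groth.Agent.Books.AffBridge2
open Groth.Agent.Sga3B.RG Groth.Agent.Sga3B.RG.BrPts K495.ObsPt K495.Bridge K495.GModPt K497.Rat K497.GM

variable {k : Type u} [Field k] {A : Type u} [CommRing A] [HopfAlgebra k A]
  {G : Over (Spec (CommRingCat.of k))} [GrpObj G] (e : G ≅ SpecOver k A) [IsMonHom e.hom]
  {H : Over (Spec (CommRingCat.of k))} [GrpObj H] (i : H ⟶ G) [IsMonHom i]

lemma psub_eq_ptsSub : psub e i = ptsSub (i ≫ e.hom) := by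
  ext p
  rw [mem_psub, mem_ptsSub]
  constructor
  · rintro ⟨h, rfl⟩
    refine ⟨(unitIso k).hom ≫ ptS k H h, ?_⟩
    change _ = (unitIso k).hom ≫ specMap k (ptE e k (h ≫ i)).ofConv
    rw [specMap_ptE, Category.assoc]
    rfl
  · rintro ⟨n, hn⟩
    refine ⟨(ptS k H).symm ((unitIso k).inv ≫ n), ?_⟩
    apply (rptEquiv k A k).injective
    rw [rptEquiv_apply, specMap_ptE]
    change ((unitIso k).inv ≫ n) ≫ i ≫ e.hom = specMap k p.ofConv
    rw [Category.assoc, hn]
    exact (unitIso k).inv_hom_id_assoc _

variable [IsAlgClosed k] [Algebra.FiniteType k A] [_root_.IsReduced A]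
variable {U : Over (Spec (CommRingCat.of k))} [GrpObj U] (u : U ⟶ H)

omit [Algebra.FiniteType k A] [_root_.IsReduced A] [IsAlgClosed k] in
lemma isMonHom_of_uRad (hU : Par.IsUnipotentRadical u) : IsMonHom u := hU.1

omit [Algebra.FiniteType k A] [_root_.IsReduced A] [IsAlgClosed k] in
lemma smooth_of_uRad (hU : Par.IsUnipotentRadical u) : Smooth U.hom := hU.2.2.2.1

theorem isURadIn_psub [IsClosedImmersion i.left] [Smooth H.hom] [IsMonHom u]
    (hU : Par.IsUnipotentRadical u) : K493.URad.IsURadIn (psub e i) (psub e (u ≫ i)) := by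
  have h2 : IsClosedImmersion u.left := hU.2.1
  have h3 : Smooth U.hom := hU.2.2.2.1
  rw [psub_eq_ptsSub, psub_eq_ptsSub]
  exact (K493.URad.isUnipotentRadical_iff e i u).1 hU

omit [_root_.IsReduced A] in
include e in
lemma isConn_univ_of_connected [Smooth G.hom] [ConnectedSpace G.left] : IsConn (Set.univ : Set (Pt k A)) := by
  have h1 : IsIso e.hom.left := (Over.forget _).map_isIso e.hom
  have h2 : IsClosedImmersion (𝟙 G ≫ e.hom).left := by
    rw [Category.id_comp]; infer_instance
  have h3 := isConn_ptsSub (K := k) (𝟙 G ≫ e.hom)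
  rw [← psub_eq_ptsSub, psub_id] at h3
  exact h3

end K497.URadPt
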