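import Groth.Agent.AGF.K497.GeomRed

/-!
# Power lifting of invariants

`A` is a finitely generated reduced Hopf algebra over the algebraically closed field `K`, geometrically reductive.
* `GeomRed.lift`: an element `x` of a rational algebra `R` which is invariant modulo an ideal `J` has a power congruent
  modulo `J` to an invariant `y`, polynomial in the translates of `x`;
* `GeomRed.lift_sub`: the same for the invariants of an arbitrary subgroup `N` and `J` stable (by transfer to the functions
  on the group with values in `R`);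
* `GeomRed.integral`, `GeomRed.integral_sub`: an invariant element integral over a stable subalgebra `C` is integral over
  the invariants of `C`.
-/

set_option autoImplicit false

universe u w w'

open TensorProduct Groth.Agent.Sga3B.RG Polynomial

namespace K497.Rat

section Lift

variable {K : Type u} [Field K] {A : Type u} [CommRing A] [HopfAlgebra K A]
variable {R : Type u} [CommRing R] [Algebra K R]

/-- Elements of the span of the orbit of `x` are invariant modulo `J` if `x` is. -/
lemma sub_mem_of_mem_orb {σ : Pt K A →* (R →ₐ[K] R)} {J : Ideal R} {x : R} (hx : ∀ g, σ g x - x ∈ J) {v : R}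
    (hv : v ∈ orb (toRep σ) {x}) (g : Pt K A) : σ g v - v ∈ J := by
  induction hv using Submodule.span_induction with
  | mem v hv =>
    obtain ⟨h, z, hz, rfl⟩ := hv
    rw [Set.mem_singleton_iff.1 hz, toRep_apply, ← act_mul]
    have := J.sub_mem (hx (g * h)) (hx h)
    simpa using this
  | zero => simp
  | add a b _ _ ha hb =>
    rw [map_add]
    have := J.add_mem ha hb
    convert this using 1
    ring
  | smul c a _ ha =>
    rw [map_smul, ← smul_sub, Algebra.smul_def]
    exact J.mul_mem_left _ ha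

/-- The polynomials whose `n`-th coefficient lies in the `n`-th power of `W`. -/
def rees (W : Submodule K R) : Subalgebra K R[X] where
  carrier := {P | ∀ n, P.coeff n ∈ W ^ n}
  mul_mem' {P Q} hP hQ n := by
    rw [coeff_mul]
    refine Submodule.sum_mem _ fun ij hij => ?_
    rw [Finset.mem_antidiagonal] at hij
    rw [← hij, pow_add]
    exact Submodule.mul_mem_mul (hP _) (hQ _)
  add_mem' {P Q} hP hQ n := by
    rw [coeff_add]
    exact add_mem (hP n) (hQ n)
  algebraMap_mem' c n := by
    rw [Polynomial.algebraMap_apply, coeff_C]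
    split_ifs with h
    · rw [h, pow_zero]
      exact Submodule.algebraMap_mem c
    · exact zero_mem _

lemma mem_rees {W : Submodule K R} {P : R[X]} : P ∈ rees W ↔ ∀ n, P.coeff n ∈ W ^ n := Iff.rfl

lemma monomial_mem_rees {W : Submodule K R} {n : ℕ} {r : R} (h : r ∈ W ^ n) : monomial n r ∈ rees W := by
  intro m
  rw [coeff_monomial]
  split_ifs with h'
  · rw [← h']; exact h
  · exact zero_mem _

/-- The image of a homogeneous component of the symmetric algebra. -/
lemma lift_coeff_symDeg {V : Type w} [AddCommGroup V] [Module K V] (f : V →ₗ[K] R) (s : SymmetricAlgebra K V) (n : ℕ) :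
    SymmetricAlgebra.lift f ((symDeg K V s).coeff n) ∈ (LinearMap.range f) ^ n := by
  have h : ∀ s, (Polynomial.mapAlgHom (SymmetricAlgebra.lift f)) (symDeg K V s) ∈ rees (LinearMap.range f) := by
    intro s
    induction s using SymmetricAlgebra.induction with
    | algebraMap r => rw [AlgHom.commutes, AlgHom.commutes]; exact Subalgebra.algebraMap_mem _ _
    | ι v =>
      rw [symDeg_ι]
      change Polynomial.map _ _ ∈ _
      rw [Polynomial.map_monomial]
      refine monomial_mem_rees ?_
      rw [pow_one]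
      exact ⟨v, (SymmetricAlgebra.lift_ι_apply f v).symm⟩
    | mul a b ha hb => rw [map_mul, map_mul]; exact mul_mem ha hb
    | add a b ha hb => rw [map_add, map_add]; exact add_mem ha hb
  have h1 := h s n
  change (Polynomial.map _ _).coeff n ∈ _ at h1
  rw [Polynomial.coeff_map] at h1
  exact h1

lemma pow_orb_le_adjoin {σ : Pt K A →* (R →ₐ[K] R)} {x : R} (n : ℕ) :
    (orb (toRep σ) {x}) ^ n ≤ Subalgebra.toSubmodule (Algebra.adjoin K (Set.range fun g => σ g x)) := by
  have h1 : orb (toRep σ) {x} ≤ Subalgebra.toSubmodule (Algebra.adjoin K (Set.range fun g => σ g x)) := by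
    rw [orb, Submodule.span_le]
    rintro _ ⟨h, z, hz, rfl⟩
    rw [Set.mem_singleton_iff.1 hz]
    exact Algebra.subset_adjoin ⟨h, rfl⟩
  induction n with
  | zero =>
    rw [pow_zero, Submodule.one_le]
    exact Subalgebra.one_mem _
  | succ n ih =>
    rw [pow_succ, Submodule.mul_le]
    intro a ha b hb
    exact Subalgebra.mul_mem _ (ih ha) (h1 hb)

theorem GeomRed.lift (hG : GeomRed K A) {σ : Pt K A →* (R →ₐ[K] R)} (hσ : IsRatA σ) (J : Ideal R) {x : R}
    (hx : ∀ g, σ g x - x ∈ J) :
    ∃ n > 0, ∃ y ∈ (orb (toRep σ) {x}) ^ n, (∀ g, σ g y = y) ∧ x ^ n - y ∈ J := by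
  by_cases hxJ : x ∈ J
  · exact ⟨1, one_pos, 0, zero_mem _, fun g => map_zero _, by simpa using hxJ⟩
  have hfin := hσ.isRat.finite_orb (Set.finite_singleton x)
  set V := orb (toRep σ) {x} with hV
  let q : R →ₐ[K] R ⧸ J := Ideal.Quotient.mkₐ K J
  have hq0 : q x ≠ 0 := fun h => hxJ (Ideal.Quotient.eq_zero_iff_mem.1 h)
  have hq : ∀ v : V, q v ∈ K ∙ q x := by
    rintro ⟨v, hv⟩
    have h1 : V ≤ (K ∙ q x).comap q.toLinearMap := by
      rw [hV, orb, Submodule.span_le]
      rintro _ ⟨h, z, hz, rfl⟩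
      have : q (σ h x) = q x := by
        rw [← sub_eq_zero, ← map_sub]
        exact Ideal.Quotient.eq_zero_iff_mem.2 (hx h)
      rw [Set.mem_singleton_iff.1 hz]
      change q (σ h x) ∈ (K ∙ q x)
      rw [this]
      exact Submodule.mem_span_singleton_self _
    exact h1 hv
  let φ : V →ₗ[K] K := (LinearEquiv.toSpanNonzeroSingleton K (R ⧸ J) (q x) hq0).symm.toLinearMap ∘ₗ
    (q.toLinearMap ∘ₗ V.subtype).codRestrict (K ∙ q x) hq
  have hφ : ∀ v : V, φ v • q x = q v := fun v => by
    have := (LinearEquiv.toSpanNonzeroSingleton K (R ⧸ J) (q x) hq0).apply_symm_apply ⟨q v, hq v⟩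
    exact congrArg Subtype.val this
  let ρ : Representation K (Pt K A) V := (toRep σ).subrepresentation V (orb_stable _ _)
  have hρ : IsRat ρ := hσ.isRat.subrepresentation _ _
  have hφinv : ∀ g v, φ (ρ g v) = φ v := by
    intro g v
    have h1 : (φ (ρ g v) - φ v) • q x = 0 := by
      rw [sub_smul, hφ, hφ, ← map_sub]
      exact Ideal.Quotient.eq_zero_iff_mem.2 (sub_mem_of_mem_orb hx v.2 g)
    exact sub_eq_zero.1 ((smul_eq_zero.1 h1).resolve_right hq0)
  have hφ1 : φ ⟨x, subset_orb _ _ rfl⟩ = 1 := by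
    have h1 : (φ ⟨x, subset_orb _ _ rfl⟩ - 1) • q x = 0 := by
      rw [sub_smul, hφ, one_smul, sub_self]
    exact sub_eq_zero.1 ((smul_eq_zero.1 h1).resolve_right hq0)
  have hφ0 : φ ≠ 0 := fun h => by
    rw [h] at hφ1
    exact zero_ne_one hφ1
  obtain ⟨n, hn, F₀, hF₀, hFn₀⟩ := hG V ρ hρ.isAlg φ hφinv hφ0
  -- the homogeneous component of degree `n`
  set F := (symDeg K V F₀).coeff n with hFdef
  have hF : ∀ g, symAct ρ g F = F := by
    intro g
    have h1 := polyAct_symDeg ρ g F₀
    rw [hF₀ g] at h1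
    rw [hFdef]
    conv_rhs => rw [← h1]
    exact (Polynomial.coeff_map _ _).symm
  have hFn : symTo φ F = X ^ n := by
    rw [hFdef, symTo_coeff_symDeg, hFn₀, coeff_X_pow_self, monomial_one_right_eq_X_pow]
  let Φ : SymmetricAlgebra K V →ₐ[K] R := SymmetricAlgebra.lift V.subtype
  have hΦ : ∀ v : V, Φ (SymmetricAlgebra.ι K V v) = v := fun v => by simp [Φ]
  have hΦg : ∀ g s, σ g (Φ s) = Φ (symAct ρ g s) := by
    intro g s
    have : (σ g).comp Φ = Φ.comp (symAct ρ g) := by
      apply SymmetricAlgebra.algHom_ext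
      ext v : 1
      change σ g (Φ (SymmetricAlgebra.ι K V v)) = Φ (symAct ρ g (SymmetricAlgebra.ι K V v))
      rw [symAct_ι, hΦ, hΦ]
      rfl
    exact DFunLike.congr_fun this s
  refine ⟨n, hn, Φ F, ?_, fun g => by rw [hΦg, hF], ?_⟩
  · have h1 := lift_coeff_symDeg V.subtype F₀ n
    rwa [Submodule.range_subtype] at h1
  · rw [← Ideal.Quotient.eq_zero_iff_mem]
    change q (x ^ n - Φ F) = 0
    have h1 : q.comp Φ = (Polynomial.aeval (q x)).comp (symTo φ) := by
      apply SymmetricAlgebra.algHom_ext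
      ext v : 1
      change q (Φ (SymmetricAlgebra.ι K V v)) = Polynomial.aeval (q x) (symTo φ (SymmetricAlgebra.ι K V v))
      rw [hΦ, symTo_ι, map_smul, aeval_X, hφ]
    have h2 := DFunLike.congr_fun h1 F
    change q (Φ F) = Polynomial.aeval (q x) (symTo φ F) at h2
    rw [map_sub, h2, hFn, map_pow, map_pow, aeval_X, sub_self]

end Lift

section Ev

variable {K : Type u} [Field K] {A : Type u} [CommRing A] [HopfAlgebra K A]
variable {R : Type w} [CommRing R] [Algebra K R]

/-- Evaluation at a point as an algebra map. -/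
noncomputable def evA (g : Pt K A) : A ⊗[K] R →ₐ[K] R :=
  Algebra.TensorProduct.lift ((Algebra.ofId K R).comp g.ofConv) (AlgHom.id K R) (fun _ _ => .all ..)

lemma evA_apply (g : Pt K A) (t : A ⊗[K] R) : evA g t = ev R g t := by
  induction t using TensorProduct.induction_on with
  | zero => rw [map_zero, map_zero]
  | tmul a r =>
    rw [ev_tmul, evA, Algebra.TensorProduct.lift_tmul, Algebra.smul_def]
    rfl
  | add x y hx hy => rw [map_add, map_add, hx, hy]

variable [IsAlgClosed K] [Algebra.FiniteType K A] [IsReduced A]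

lemma isRatA_lTrHom : IsRatA (lTrHom K A) := by
  intro a
  let r := Coalgebra.Repr.arbitrary K a
  have h1 : IsPol (fun g : Pt K A => ∑ i ∈ r.index, g⁻¹ (r.left i) • r.right i) := by
    refine IsPol.sum _ fun i _ => ?_
    exact (isPol_apply_smul (r.left i) (r.right i)).comp_reg isReg_inv
  refine h1.congr fun g => ?_
  change lTr g a = _
  rw [lTr, AlgHom.comp_apply, Bialgebra.comulAlgHom_apply, ← r.eq]
  simp [map_sum]

lemma isRatA_rTrHom : IsRatA (rTrHom K A) := by
  intro a
  let r := Coalgebra.Repr.arbitrary K a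
  have h1 : IsPol (fun g : Pt K A => ∑ i ∈ r.index, g (r.right i) • r.left i) :=
    IsPol.sum _ fun i _ => isPol_apply_smul (r.right i) (r.left i)
  refine h1.congr fun g => ?_
  change rTr g a = _
  rw [rTr, AlgHom.comp_apply, Bialgebra.comulAlgHom_apply, ← r.eq]
  simp [map_sum]

/-- The action on functions with values in `R` by translation of the argument and action on the values. -/
lemma ev_tenAct_lTr (σ : Pt K A →* (R →ₐ[K] R)) (g h : Pt K A) (t : A ⊗[K] R) :
    ev R h (tenAct (lTrHom K A) σ g t) = σ g (ev R (g⁻¹ * h) t) := by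
  induction t using TensorProduct.induction_on with
  | zero => simp
  | tmul a r =>
    rw [tenAct_tmul, ev_tmul, ev_tmul, map_smul]
    congr 1
    exact lTr_apply_pt g h a
  | add x y hx hy => rw [map_add, map_add, map_add, map_add, hx, hy]

end Ev

section Coeff

variable {K : Type u} [Field K] {A : Type u} [CommRing A] [HopfAlgebra K A]
variable {R : Type w} [CommRing R] [Algebra K R]

/-- Integrality from a monic polynomial with coefficients in the subalgebra. -/
lemma isIntegral_of_coeff_mem {C : Subalgebra K R} {x : R} (p : R[X]) (hp : p.Monic) (hc : ∀ i, p.coeff i ∈ C)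
    (h0 : p.eval x = 0) : IsIntegral C x := by
  have h1 : p ∈ Polynomial.lifts (algebraMap C R) := by
    rw [Polynomial.lifts_iff_coeff_lifts]
    exact fun n => ⟨⟨_, hc n⟩, rfl⟩
  obtain ⟨q, hq, -, hqm⟩ := Polynomial.lifts_and_natDegree_eq_and_monic h1 hp
  exact ⟨q, hqm, by rw [← Polynomial.eval_map, hq, h0]⟩

lemma exists_monic_of_isIntegral {C : Subalgebra K R} {x : R} (h : IsIntegral C x) :
    ∃ p : R[X], p.Monic ∧ (∀ i, p.coeff i ∈ C) ∧ p.eval x = 0 := by
  obtain ⟨q, hq, hq0⟩ := h
  refine ⟨q.map (algebraMap C R), hq.map _, fun i => ?_, by rw [Polynomial.eval_map, hq0]⟩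
  rw [Polynomial.coeff_map]
  exact (q.coeff i).2

/-- The polynomials with coefficients in a subalgebra. -/
def coeffSub (C : Subalgebra K R) : Subalgebra K R[X] where
  carrier := {P | ∀ n, P.coeff n ∈ C}
  mul_mem' {P Q} hP hQ n := by
    rw [coeff_mul]
    exact Subalgebra.sum_mem _ fun ij _ => mul_mem (hP _) (hQ _)
  add_mem' {P Q} hP hQ n := by
    rw [coeff_add]
    exact add_mem (hP n) (hQ n)
  algebraMap_mem' c n := by
    rw [Polynomial.algebraMap_apply, coeff_C]
    split_ifs with h
    · exact Subalgebra.algebraMap_mem _ c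
    · exact zero_mem _

lemma polyAct_coeff (σ : Pt K A →* (R →ₐ[K] R)) (g : Pt K A) (P : R[X]) (n : ℕ) :
    (polyAct σ g P).coeff n = σ g (P.coeff n) := Polynomial.coeff_map _ _

lemma IsRatA.polyAct {σ : Pt K A →* (R →ₐ[K] R)} (h : IsRatA σ) : IsRatA (polyAct σ) := by
  intro P
  induction P using Polynomial.induction_on' with
  | add P Q hP hQ => exact (hP.add hQ).congr fun g => map_add _ _ _
  | monomial n r =>
    refine ((h r).map ((Polynomial.monomial n).restrictScalars K)).congr fun g => ?_
    exact Polynomial.map_monomial _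

end Coeff

section LiftSub

variable {K : Type u} [Field K] {A : Type u} [CommRing A] [HopfAlgebra K A]
variable [IsAlgClosed K] [Algebra.FiniteType K A] [IsReduced A]
variable {R : Type u} [CommRing R] [Algebra K R]

theorem GeomRed.lift_sub (hG : GeomRed K A) {σ : Pt K A →* (R →ₐ[K] R)} (hσ : IsRatA σ) (J : Ideal R)
    (hJ : IsStab σ (J : Set R)) (N : Subgroup (Pt K A)) {x : R} (hx : ∀ g ∈ N, σ g x - x ∈ J) :
    ∃ n > 0, ∃ y ∈ fixA σ N, x ^ n - y ∈ J := by
  obtain ⟨t, ht⟩ := hσ x
  -- a linear projection with kernel `J`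
  obtain ⟨ψ, hψJ, hψ⟩ : ∃ ψ : R →ₗ[K] R, (∀ r ∈ J, ψ r = 0) ∧ ∀ r, ψ r - r ∈ J := by
    let q : R →ₗ[K] R ⧸ J := (Ideal.Quotient.mkₐ K J).toLinearMap
    obtain ⟨s, hs⟩ := q.exists_rightInverse_of_surjective
      (LinearMap.range_eq_top.2 (Ideal.Quotient.mkₐ_surjective K J))
    refine ⟨s ∘ₗ q, fun r hr => ?_, fun r => ?_⟩
    · have : q r = 0 := Ideal.Quotient.eq_zero_iff_mem.2 hr
      rw [LinearMap.comp_apply, this, map_zero]
    · have h1 : q (s (q r) - r) = 0 := by
        rw [map_sub]
        have := LinearMap.congr_fun hs (q r)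
        rw [LinearMap.comp_apply] at this
        rw [this]
        exact sub_self _
      exact Ideal.Quotient.eq_zero_iff_mem.1 h1
  set t' := LinearMap.lTensor A ψ t with ht'
  have ht'1 : ∀ g, ev R g t' = ψ (σ g x) := fun g => by rw [ht', ev_lTensor, ← ht g]
  let τ := tenAct (lTrHom K A) σ
  have hτ : IsRatA τ := isRatA_lTrHom.tenAct hσ
  let JQ : Ideal (A ⊗[K] R) := ⨅ g : Pt K A, J.comap (evA g)
  have hJQ : ∀ q, q ∈ JQ ↔ ∀ g, ev R g q ∈ J := by
    intro q
    simp only [JQ, Ideal.mem_iInf, Ideal.mem_comap, evA_apply]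
  have hinv : ∀ γ, τ γ t' - t' ∈ JQ := by
    intro γ
    rw [hJQ]
    intro g
    rw [map_sub, ev_tenAct_lTr, ht'1, ht'1]
    have h1 : σ γ (ψ (σ (γ⁻¹ * g) x) - σ (γ⁻¹ * g) x) ∈ J := hJ γ _ (hψ _)
    have h2 := J.sub_mem h1 (hψ (σ g x))
    rw [map_sub, ← act_mul, mul_inv_cancel_left] at h2
    simpa using h2
  obtain ⟨n, hn, y', hy', hyfix, hyJ⟩ := hG.lift hτ JQ hinv
  refine ⟨n, hn, ev R 1 y', fun γ hγ => ?_, ?_⟩
  · replace hy' := pow_orb_le_adjoin n hy'
    have h1 : ∀ q ∈ Algebra.adjoin K (Set.range fun g => τ g t'), ∀ g, ∀ m ∈ N,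
        ev R (g * m) q = ev R g q := by
      intro q hq
      induction hq using Algebra.adjoin_induction with
      | mem q hq =>
        obtain ⟨γ, rfl⟩ := hq
        intro g m hm
        simp only [τ]
        rw [ev_tenAct_lTr, ev_tenAct_lTr, ht'1, ht'1]
        congr 1
        rw [← sub_eq_zero, ← map_sub]
        apply hψJ
        rw [← mul_assoc, act_mul σ (γ⁻¹ * g) m, ← map_sub]
        exact hJ _ _ (hx m hm)
      | algebraMap c =>
        intro g m hm
        rw [← evA_apply, ← evA_apply, AlgHom.commutes, AlgHom.commutes]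
      | add a b _ _ ha hb => intro g m hm; rw [map_add, map_add, ha g m hm, hb g m hm]
      | mul a b _ _ ha hb =>
        intro g m hm
        rw [← evA_apply, ← evA_apply, map_mul, map_mul, evA_apply, evA_apply, evA_apply, evA_apply, ha g m hm,
          hb g m hm]
    have h2 : ev R γ (τ γ y') = σ γ (ev R 1 y') := by
      simp only [τ]
      rw [ev_tenAct_lTr, inv_mul_cancel]
    rw [← h2, hyfix, ← h1 y' hy' 1 γ hγ, _root_.one_mul]
  · rw [hJQ] at hyJ
    have h1 := hyJ 1
    rw [map_sub, ← evA_apply, map_pow, evA_apply, ht'1, act_one] at h1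
    have h2 : (x ^ n - ψ x ^ n) ∈ J := by
      obtain ⟨c, hc⟩ := sub_dvd_pow_sub_pow x (ψ x) n
      rw [hc]
      have h3 : x - ψ x ∈ J := by
        rw [← neg_sub]
        exact J.neg_mem (hψ x)
      exact J.mul_mem_right _ h3
    have := J.add_mem h2 h1
    simpa using this

/-- An invariant element integral over a stable subalgebra `C` is integral over the invariants of `C`. -/
theorem GeomRed.integral (hG : GeomRed K A) {σ : Pt K A →* (R →ₐ[K] R)} (hσ : IsRatA σ) (C : Subalgebra K R)
    (hC : IsStab σ (C : Set R)) {x : R} (hx : ∀ g, σ g x = x) (hxC : IsIntegral C x) :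
    IsIntegral ↥(C ⊓ fixA σ ⊤) x := by
  obtain ⟨p, hpm, hpC, hp0⟩ := exists_monic_of_isIntegral hxC
  set n := p.natDegree with hn
  let L := Localization.Away x
  let i : R →+* L := algebraMap R L
  have hu : IsUnit (i x) := IsLocalization.Away.algebraMap_isUnit x
  let _ : Invertible (i x) := hu.invertible
  set f := reflect n p with hf
  have hf0 : f.coeff 0 = 1 := by
    rw [hf, coeff_reflect, revAt_zero]
    exact hpm
  let τ := polyAct σ
  have hτ : IsRatA τ := hσ.polyAct
  let J : Ideal R[X] := RingHom.ker (Polynomial.constantCoeff : R[X] →+* R)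
  have hJ : ∀ q : R[X], q ∈ J ↔ q.coeff 0 = 0 := fun q => by
    rw [RingHom.mem_ker, Polynomial.constantCoeff_apply]
  have hfJ : ∀ g, τ g f - f ∈ J := by
    intro g
    rw [hJ, coeff_sub, polyAct_coeff, hf0, map_one, sub_self]
  obtain ⟨m, hm, y, hy, hyfix, hyJ⟩ := hG.lift hτ J hfJ
  -- the relations
  let I : Ideal R[X] := RingHom.ker (Polynomial.eval₂RingHom i (⅟(i x)))
  have hI : ∀ q : R[X], q ∈ I ↔ q.eval₂ i (⅟(i x)) = 0 := fun q => by
    rw [RingHom.mem_ker]; rfl
  have hVI : orb (toRep τ) {f} ≤ I.restrictScalars K := by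
    rw [orb, Submodule.span_le]
    rintro _ ⟨g, z, hz, rfl⟩
    rw [Set.mem_singleton_iff.1 hz]
    change τ g f ∈ I
    rw [hI]
    have h1 : τ g f = reflect n (p.map (σ g : R →+* R)) := by
      rw [Polynomial.reflect_map]
      rfl
    have h3 : (p.map (σ g : R →+* R)).eval (σ g x) = 0 := by
      rw [eval_map]
      exact (Polynomial.eval₂_at_apply (σ g : R →+* R) x).trans (by rw [hp0, map_zero])
    rw [hx g] at h3
    rw [h1, eval₂_reflect_eq_zero_iff _ _ _ _ (natDegree_map_le), eval₂_hom, h3, map_zero]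
  have hyI : y ∈ I := by
    obtain ⟨k, rfl⟩ : ∃ k, m = k + 1 := ⟨m - 1, by omega⟩
    have h1 : (orb (toRep τ) {f}) ^ (k + 1) ≤ I.restrictScalars K := by
      rw [pow_succ, Submodule.mul_le]
      intro a _ b hb
      exact I.mul_mem_left a (hVI hb)
    exact h1 hy
  have hyC : ∀ k, y.coeff k ∈ C := by
    have h1 := pow_orb_le_adjoin m hy
    have h2 : Algebra.adjoin K (Set.range fun g => τ g f) ≤ coeffSub C := by
      rw [Algebra.adjoin_le_iff]
      rintro _ ⟨g, rfl⟩ k
      rw [polyAct_coeff]
      refine hC g _ ?_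
      rw [hf, coeff_reflect]
      exact hpC _
    exact h2 h1
  have hyG : ∀ k, y.coeff k ∈ fixA σ ⊤ := by
    intro k g _
    rw [← polyAct_coeff]
    exact congrArg (fun q => Polynomial.coeff q k) (hyfix g)
  have hy0 : y.coeff 0 = 1 := by
    rw [hJ, coeff_sub, ← Polynomial.constantCoeff_apply, map_pow, Polynomial.constantCoeff_apply, hf0, one_pow] at hyJ
    exact (sub_eq_zero.1 hyJ).symm
  -- the reversed polynomial
  set q := reflect y.natDegree y with hq
  have hqdeg : q.natDegree ≤ y.natDegree := by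
    rw [natDegree_le_iff_coeff_eq_zero]
    intro N hN
    rw [hq, coeff_reflect, revAt_eq_self_of_lt hN]
    exact coeff_eq_zero_of_natDegree_lt hN
  have hqm : q.Monic := by
    refine monic_of_natDegree_le_of_coeff_eq_one _ hqdeg ?_
    rw [hq, coeff_reflect, revAt_le le_rfl, Nat.sub_self, hy0]
  have hq0 : i (q.eval x) = 0 := by
    rw [← eval₂_hom, ← eval₂_reflect_eq_zero_iff i (i x) y.natDegree q hqdeg, hq, reflect_reflect]
    exact (hI y).1 hyI
  obtain ⟨⟨_, k, rfl⟩, hk⟩ := (IsLocalization.map_eq_zero_iff (Submonoid.powers x) L _).1 hq0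
  refine isIntegral_of_coeff_mem (X ^ k * q) ((monic_X_pow k).mul hqm) (fun j => ?_) ?_
  · rw [coeff_X_pow_mul']
    split_ifs with h
    · rw [hq, coeff_reflect]
      exact ⟨hyC _, hyG _⟩
    · exact zero_mem _
  · rw [eval_mul, eval_pow, eval_X]
    exact hk

/-- An element fixed by the subgroup `N`, in an algebra integral over a stable subalgebra `C`, is integral over the
`N`-fixed elements of `C`. -/
theorem GeomRed.integral_sub (hG : GeomRed K A) {σ : Pt K A →* (R →ₐ[K] R)} (hσ : IsRatA σ) (C : Subalgebra K R)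
    (hC : IsStab σ (C : Set R)) (hint : ∀ r : R, IsIntegral C r) (N : Subgroup (Pt K A)) {x : R}
    (hx : x ∈ fixA σ N) : IsIntegral ↥(C ⊓ fixA σ N) x := by
  obtain ⟨t, ht⟩ := hσ x
  replace ht : ∀ g, σ g x = ev R g t := ht
  let τ := tenAct (lTrHom K A) σ
  have hτ : IsRatA τ := isRatA_lTrHom.tenAct hσ
  let D : Subalgebra K (A ⊗[K] R) :=
    { carrier := {q | ∀ g, ev R g q ∈ C ∧ ∀ m ∈ N, ev R (g * m) q = ev R g q}
      mul_mem' := fun {a b} ha hb g => by
        constructor
        · rw [← evA_apply, map_mul, evA_apply, evA_apply]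
          exact mul_mem (ha g).1 (hb g).1
        · intro m hm
          rw [← evA_apply, ← evA_apply, map_mul, map_mul, evA_apply, evA_apply, evA_apply, evA_apply,
            (ha g).2 m hm, (hb g).2 m hm]
      add_mem' := fun {a b} ha hb g => by
        constructor
        · rw [map_add]; exact add_mem (ha g).1 (hb g).1
        · intro m hm
          rw [map_add, map_add, (ha g).2 m hm, (hb g).2 m hm]
      algebraMap_mem' := fun c g => by
        constructor
        · rw [← evA_apply, AlgHom.commutes]; exact Subalgebra.algebraMap_mem _ _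
        · intro m hm
          rw [← evA_apply, ← evA_apply, AlgHom.commutes, AlgHom.commutes] }
  have hD : IsStab τ (D : Set (A ⊗[K] R)) := by
    intro γ q hq g
    simp only [τ]
    constructor
    · rw [ev_tenAct_lTr]
      exact hC _ _ (hq _).1
    · intro m hm
      rw [ev_tenAct_lTr, ev_tenAct_lTr, ← mul_assoc, (hq _).2 m hm]
  have htfix : ∀ γ, τ γ t = t := by
    intro γ
    apply eq_of_ev (K := K)
    intro g
    simp only [τ]
    rw [ev_tenAct_lTr, ← ht, ← ht, ← act_mul, mul_inv_cancel_left]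
  have htint : IsIntegral D t := by
    obtain ⟨I, e, b, he⟩ := exists_coord K A R
    have h1 : t = (e t).sum fun j a => a ⊗ₜ[K] b j := by
      apply eq_of_ev (K := K)
      intro g
      apply b.repr.injective
      ext k
      rw [Finsupp.sum, map_sum, map_sum, Finsupp.finsetSum_apply, ← he]
      simp only [ev_tmul, map_smul, Module.Basis.repr_self, Finsupp.smul_single, smul_eq_mul, _root_.mul_one]
      rw [Finset.sum_eq_single k]
      · rw [Finsupp.single_eq_same]
      · intro j _ hj
        rw [Finsupp.single_eq_of_ne hj.symm]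
      · intro hk
        rw [Finsupp.notMem_support_iff.1 hk, Pt.apply_zero, Finsupp.single_zero, Finsupp.zero_apply]
    rw [h1]
    refine IsIntegral.sum _ fun j _ => ?_
    change IsIntegral D ((e t j) ⊗ₜ[K] b j)
    have h2 : (e t j) ⊗ₜ[K] b j = ((e t j) ⊗ₜ[K] (1 : R)) * ((1 : A) ⊗ₜ[K] b j) := by
      rw [Algebra.TensorProduct.tmul_mul_tmul, _root_.mul_one, _root_.one_mul]
    rw [h2]
    refine IsIntegral.mul ?_ ?_
    · have h3 : (e t j) ⊗ₜ[K] (1 : R) ∈ D := by
        intro g
        rw [ev_tmul]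
        constructor
        · rw [← Algebra.algebraMap_eq_smul_one]; exact Subalgebra.algebraMap_mem _ _
        · intro m hm
          rw [ev_tmul, he, he, ← ht, ← ht, act_mul, hx m hm]
      exact isIntegral_algebraMap (R := D) (x := ⟨_, h3⟩)
    · let φ : C →+* D :=
        { toFun := fun c => ⟨(1 : A) ⊗ₜ[K] (c : R), fun g => by
            rw [ev_tmul, Pt.apply_one, one_smul]
            exact ⟨c.2, fun m hm => by rw [ev_tmul, Pt.apply_one, one_smul]⟩⟩
          map_one' := rfl
          map_mul' := fun c d => Subtype.ext (by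
            change (1 : A) ⊗ₜ[K] ((c : R) * d) = ((1 : A) ⊗ₜ[K] (c : R)) * ((1 : A) ⊗ₜ[K] (d : R))
            rw [Algebra.TensorProduct.tmul_mul_tmul, _root_.mul_one])
          map_zero' := Subtype.ext (TensorProduct.tmul_zero _ _)
          map_add' := fun c d => Subtype.ext (TensorProduct.tmul_add _ _ _) }
      exact IsIntegral.map_of_comp_eq φ (Algebra.TensorProduct.includeRight : R →ₐ[K] A ⊗[K] R).toRingHom rfl
        (hint (b j))
  have h2 := hG.integral hτ D hD htfix htint
  have h3 : x = evA 1 t := by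
    rw [evA_apply]
    exact (act_one σ x).symm.trans (ht 1)
  rw [h3]
  let φ : ↥(D ⊓ fixA τ ⊤) →+* ↥(C ⊓ fixA σ N) :=
    ((evA (1 : Pt K A) : A ⊗[K] R →ₐ[K] R).comp (D ⊓ fixA τ ⊤).val).toRingHom.codRestrict (C ⊓ fixA σ N) (by
      rintro ⟨q, hq, hq'⟩
      change evA 1 q ∈ _
      rw [evA_apply]
      refine ⟨(hq 1).1, fun m hm => ?_⟩
      have h4 : ev R m (τ m q) = σ m (ev R 1 q) := by
        simp only [τ]
        rw [ev_tenAct_lTr, inv_mul_cancel]
      rw [← h4, hq' m trivial, ← (hq 1).2 m hm, _root_.one_mul])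
  exact IsIntegral.map_of_comp_eq φ (evA (1 : Pt K A) : A ⊗[K] R →ₐ[K] R).toRingHom rfl h2

end LiftSub

end K497.Rat
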