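import Groth.Agent.S3972
import Groth.Agent.Sga3B.AlgBc2
import Groth.Agent.Sga3B.RG.SsExt885
import Groth.Agent.Sga3B.RG.BrRed2
import Groth.Agent.Sga3B.RG.TrigTorus

/-!
# The derived group of a connected reductive group, on points
-/

set_option autoImplicit false
set_option linter.unusedSectionVars false

universe u

open CategoryTheory MonoidalCategory CartesianMonoidalCategory MonObj GrpObj AlgebraicGeometry Limits
open scoped TensorProduct LaurentPolynomial

namespace K497.Derived

open Groth.Agent.Books.AffBridge Groth.Agent.Books.AffBridge2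
open Groth.Agent.Sga3B Groth.Agent.Sga3B.RG Groth.Agent.Sga3B.RG.BrPts Groth.Agent.Sga3B.RG.BcPt
  Groth.Agent.Sga3B.RG.BrTorus

variable {K : Type u} [Field K] [IsAlgClosed K] {A : Type u} [CommRing A] [HopfAlgebra K A]
  [Algebra.FiniteType K A] [IsDomain A]

/-- A connected reductive group has a closed connected normal semisimple subgroup containing all unipotent
elements. -/
theorem exists_derived (hred : IsRedPt K A) : ∃ D : Subgroup (Pt K A), D.Normal ∧ IsCl (D : Set (Pt K A)) ∧
    IsConn (D : Set (Pt K A)) ∧ IsSsPt K (A ⧸ vanIdeal (D : Set (Pt K A))) ∧ ∀ g : Pt K A, IsUnip g → g ∈ D := by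
  have hG0 : Red.IsReductiveOver K (SpecOver K A) := BrRed2.isReductiveOver_iff.2 ⟨inferInstance, hred⟩
  have hG : Red.IsReductive (SpecOver K A) := AlgBc.isReductive_iff.2 hG0
  obtain ⟨C, _, f₀, D₀, _, d, hf₀, hC, hsm, hsurj, hd, hdcl, hker, hss, -, -, -⟩ := Groth.Agent.S3972.result _ hG
  have hss' : Red.IsSemisimpleOver K D₀ := AlgBc.isSemisimple_iff.1 hss
  have hsmD : Smooth D₀.hom := hss'.1.2.1
  obtain ⟨hcl, hJ, e, he, hei⟩ := exists_iso_vanIdeal d
  have h1 := BrRed2.isSemisimpleOver_iff.1 (BrRed2.isSemisimpleOver_of_iso e hss')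
  -- the torus
  obtain ⟨n, e', he'⟩ := isTorus_iff.1 hC
  have hm : IsMonHom (f₀ ≫ e'.hom) := inferInstance
  obtain ⟨ψ, hψ⟩ := exists_bialgHom_of_isMonHom K (f₀ ≫ e'.hom)
  have key : ptsSub d = (Pt.map ψ).ker := by
    ext g
    rw [mem_ptsSub, MonoidHom.mem_ker]
    have h2 : Pt.map ψ g = 1 ↔ ptEquiv K A g ≫ f₀ = 1 := by
      rw [← (ptEquiv K (KZ K n)).injective.eq_iff, ptEquiv_map, map_one, hψ, ← Category.assoc]
      constructor
      · intro h
        rw [← cancel_mono e'.hom, h, MonObj.one_comp]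
      · intro h
        rw [h, MonObj.one_comp]
    rw [h2]
    have h3 : ∀ x : 𝟙_ (Over (Spec (CommRingCat.of K))) ⟶ SpecOver K A, x ≫ f₀ = 1 ↔
        x ≫ f₀ = toUnit (𝟙_ (Over (Spec (CommRingCat.of K)))) ≫ η[C] := fun x => Iff.rfl
    rw [h3]
    constructor
    · rintro ⟨y, hy⟩
      rw [← hy, Category.assoc, hker.w, ← Category.assoc]
      congr 1
      exact toUnit_unique _ _
    · intro h
      exact ⟨hker.lift _ _ h, hker.lift_fst _ _ h⟩
  refine ⟨ptsSub d, by rw [key]; infer_instance, hcl, ?_, h1.2, ?_⟩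
  · exact (Ideal.Quotient.isDomain_iff_prime _).1 h1.1
  · intro g hg
    rw [key, MonoidHom.mem_ker]
    have hT : IsTorusSub (⊤ : Subgroup (Pt K (KZ K n))) := by
      have h2 := isTorusSub_ptsSub (𝟙 (SpecOver K (KZ K n))) (isTorus_KZ n)
      have h3 : ptsSub (𝟙 (SpecOver K (KZ K n))) = ⊤ := by
        rw [eq_top_iff]
        intro x _
        exact ⟨ptEquiv K (KZ K n) x, Category.comp_id _⟩
      rwa [h3] at h2
    exact TrigTorus.eq_one_of_isTorusSub hT trivial (hg.map ψ)

end K497.Derived
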