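import Groth.Agent.AGF.K497.Int228
import Mathlib.RingTheory.Ideal.MinimalPrime.Basic

/-!
# Nilpotents and zero divisors in the invariants of a unipotent group
-/

set_option autoImplicit false

universe u w w'

open TensorProduct Groth.Agent.Sga3B.RG Polynomial

namespace K497.Rat

variable {K : Type u} [Field K] {A : Type u} [CommRing A] [HopfAlgebra K A] [IsAlgClosed K]
variable {R : Type u} [CommRing R] [Algebra K R]

/-- A stable nonzero ideal contains a nonzero fixed element. -/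
lemma exists_fixA_mem {σ : Pt K A →* (R →ₐ[K] R)} (hσ : IsRatA σ) {U : Subgroup (Pt K A)}
    (hU : ∀ g ∈ U, IsUnip g) (I : Ideal R) (hI : IsStab σ (I : Set R)) {a : R} (ha : a ∈ I) (ha0 : a ≠ 0) :
    ∃ x ∈ I, x ∈ fixA σ U ∧ x ≠ 0 := by
  obtain ⟨x, hx, hx0, hxf⟩ := hσ.isRat.exists_fixed hU (I.restrictScalars K) (fun g _ w hw => hI g w hw)
    (fun h => ha0 (by
      have : a ∈ I.restrictScalars K := ha
      rwa [h, Submodule.mem_bot] at this))
  exact ⟨x, hx, hxf, hx0⟩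

theorem isReduced_of_fixA {σ : Pt K A →* (R →ₐ[K] R)} (hσ : IsRatA σ) {U : Subgroup (Pt K A)}
    (hU : ∀ g ∈ U, IsUnip g) (h : ∀ x ∈ fixA σ U, IsNilpotent x → x = 0) : IsReduced R := by
  refine ⟨fun a ha => ?_⟩
  by_contra ha0
  obtain ⟨x, hx, hxf, hx0⟩ := exists_fixA_mem hσ hU (nilradical R) (fun g s hs => by
    exact (mem_nilradical.1 hs).map (σ g)) (mem_nilradical.2 ha) ha0
  exact hx0 (h x hxf (mem_nilradical.1 hx))

omit [IsAlgClosed K] in
/-- Minimal primes are stable under a connected group. -/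
theorem minimalPrimes_stab {σ : Pt K A →* (R →ₐ[K] R)} (hσ : IsRatA σ) (hA : IsConn (Set.univ : Set (Pt K A)))
    {p : Ideal R} (hp : p ∈ minimalPrimes R) : IsStab σ (p : Set R) := by
  have hpp : p.IsPrime := hp.1.1
  let q : Ideal R := ⨅ g : Pt K A, p.comap (σ g)
  have hq : ∀ r, r ∈ q ↔ ∀ g, σ g r ∈ p := by
    intro r
    simp only [q, Ideal.mem_iInf, Ideal.mem_comap]
  have hqp : q ≤ p := fun r hr => by
    have := (hq r).1 hr 1
    rwa [act_one] at this
  have hprime : q.IsPrime := by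
    refine ⟨fun h => hpp.ne_top (top_le_iff.1 (h ▸ hqp)), fun {a b} hab => ?_⟩
    have h1 : (Set.univ : Set (Pt K A)) ⊆ {g | σ g a ∈ p.restrictScalars K} ∪ {g | σ g b ∈ p.restrictScalars K} := by
      intro g _
      have := (hq _).1 hab g
      rw [map_mul] at this
      exact hpp.mem_or_mem this
    rcases hA.subset_or_subset ((hσ a).isCl_mem _) ((hσ b).isCl_mem _) h1 with h | h
    · left; rw [hq]; exact fun g => h trivial
    · right; rw [hq]; exact fun g => h trivial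
  have h1 : p ≤ q := hp.2 ⟨hprime, bot_le⟩ hqp
  intro g r hr
  exact (hq r).1 (h1 hr) g

theorem exists_zeroDiv_fixA {σ : Pt K A →* (R →ₐ[K] R)} (hσ : IsRatA σ) (hA : IsConn (Set.univ : Set (Pt K A)))
    {U : Subgroup (Pt K A)} (hU : ∀ g ∈ U, IsUnip g) {a b : R} (ha : a ≠ 0) (hb : b ≠ 0) (hab : a * b = 0) :
    ∃ x y : R, x ∈ fixA σ U ∧ y ∈ fixA σ U ∧ x ≠ 0 ∧ y ≠ 0 ∧ x * y = 0 := by
  by_cases hred : ∀ x ∈ fixA σ U, IsNilpotent x → x = 0
  · have : IsReduced R := isReduced_of_fixA hσ hU hred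
    let I : Ideal R := sInf {p | p ∈ minimalPrimes R ∧ b ∉ p}
    let J : Ideal R := sInf {p | p ∈ minimalPrimes R ∧ b ∈ p}
    have hst : ∀ (P : Ideal R → Prop), IsStab σ ((sInf {p | p ∈ minimalPrimes R ∧ P p} : Ideal R) : Set R) := by
      intro P g r hr
      rw [SetLike.mem_coe, Ideal.mem_sInf] at hr ⊢
      intro p hp
      exact minimalPrimes_stab hσ hA hp.1 g r (hr hp)
    have haI : a ∈ I := by
      rw [Ideal.mem_sInf]
      rintro p ⟨hp, hbp⟩
      have : a * b ∈ p := by rw [hab]; exact p.zero_mem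
      exact (hp.1.1.mem_or_mem this).resolve_right hbp
    have hbJ : b ∈ J := by
      rw [Ideal.mem_sInf]
      rintro p ⟨hp, hbp⟩
      exact hbp
    obtain ⟨x, hxI, hxf, hx0⟩ := exists_fixA_mem hσ hU I (hst _) haI ha
    obtain ⟨y, hyJ, hyf, hy0⟩ := exists_fixA_mem hσ hU J (hst _) hbJ hb
    refine ⟨x, y, hxf, hyf, hx0, hy0, ?_⟩
    have h1 : x * y ∈ sInf (minimalPrimes R) := by
      rw [Ideal.mem_sInf]
      intro p hp
      by_cases hbp : b ∈ p
      · exact p.mul_mem_left _ (Ideal.mem_sInf.1 hyJ ⟨hp, hbp⟩)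
      · exact p.mul_mem_right _ (Ideal.mem_sInf.1 hxI ⟨hp, hbp⟩)
    have h2 : sInf (minimalPrimes R) = nilradical R := Ideal.sInf_minimalPrimes
    rw [h2, nilradical_eq_zero] at h1
    exact h1
  · push Not at hred
    obtain ⟨x, hxf, hxn, hx0⟩ := hred
    obtain ⟨n, hn, hn'⟩ : ∃ n, x ^ n ≠ 0 ∧ x ^ (n + 1) = 0 := by
      classical
      have hne : x ^ (Nat.find hxn) = 0 := Nat.find_spec hxn
      have hpos : 0 < Nat.find hxn := by
        rcases Nat.eq_zero_or_pos (Nat.find hxn) with h | h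
        · rw [h, pow_zero] at hne
          exact absurd (eq_zero_of_zero_eq_one hne.symm x) hx0
        · exact h
      refine ⟨Nat.find hxn - 1, Nat.find_min hxn (by omega), ?_⟩
      rwa [Nat.sub_add_cancel hpos]
    exact ⟨x ^ n, x, pow_mem hxf n, hxf, hn, hx0, by rw [← pow_succ, hn']⟩

end K497.Rat
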