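import Groth.Agent.AGF.K497.Int228
import Groth.Agent.AGF.K495.GModPt
import Groth.Agent.AGF.K495.OpenSub
import Groth.Prelude.Def_W4bk4grossh111Obs

/-!
# `VecGrp.GMod` and rational representations of the group of points

`e : G ≅ SpecOver k A`, on top of `K495.GModPt`.

* `isRat_rep`: the representation of the group of points on a rational module is rational (`K497.Rat.IsRat`);
* `act e m hm`: the action on an algebra by algebra endomorphisms, `isRatA_act`;
* `isStable_iff`: stability of subspaces is tested on points;
* `ofRat`, `ofRatA`: rational representations (of any dimension) and rational actions on algebras come from `GMod`s;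
* `invFG_of_isReductiveGrp`, `geomRed_of_isReductiveGrp`.
-/

set_option autoImplicit false

universe u v

open CategoryTheory MonoidalCategory CartesianMonoidalCategory MonObj GrpObj AlgebraicGeometry
open scoped TensorProduct

namespace K497.GM

open Groth.Agent.Books.AffBridge Groth.Agent.Books.AffBridge2
open Groth.Agent.Sga3B.RG Groth.Agent.Sga3B.RG.BrPts K495.ObsPt K495.Bridge K495.GModPt K497.Rat

noncomputable section

variable {k : Type u} [Field k] {A : Type u} [CommRing A] [HopfAlgebra k A]
  {G : Over (Spec (CommRingCat.of k))} [GrpObj G] (e : G ≅ SpecOver k A) [IsMonHom e.hom]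

section rat

variable {M : Type v} [AddCommGroup M] [Module k M] (m : VecGrp.GMod G M)

lemma evT_eq_ev (p : Pt k A) (t : A ⊗[k] M) : evT M p.ofConv t = K497.Rat.ev M p t := rfl

lemma isRat_rep : IsRat (rep e m) := fun x => ⟨coact e m x, fun p => rep_apply e m p x⟩

end rat

section alg

variable {R : Type u} [CommRing R] [Algebra k R] (m : VecGrp.GMod G R) (hm : m.IsMult)

include hm in
lemma rep_mul' (p : Pt k A) (x y : R) : rep e m p (x * y) = rep e m p x * rep e m p y := by
  have h1 := (hm k ((ptE e k).symm p)).1 ((1 : k) ⊗ₜ x) ((1 : k) ⊗ₜ y)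
  rw [Algebra.TensorProduct.tmul_mul_tmul, _root_.one_mul] at h1
  rw [ρ_k e, ρ_k e, ρ_k e, MulEquiv.apply_symm_apply, Algebra.TensorProduct.tmul_mul_tmul, _root_.one_mul] at h1
  exact (TensorProduct.lid k R).symm.injective h1

include hm in
lemma rep_one' (p : Pt k A) : rep e m p (1 : R) = 1 := by
  have h1 := (hm k ((ptE e k).symm p)).2
  rw [Algebra.TensorProduct.one_def, ρ_k e, MulEquiv.apply_symm_apply] at h1
  exact (TensorProduct.lid k R).symm.injective h1

/-- The action of the group of points on an algebra. -/
def act : Pt k A →* (R →ₐ[k] R) where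
  toFun p := AlgHom.ofLinearMap (rep e m p) (rep_one' e m hm p) (rep_mul' e m hm p)
  map_one' := by
    apply AlgHom.ext
    intro x
    change rep e m 1 x = x
    rw [map_one]
    rfl
  map_mul' p q := by
    apply AlgHom.ext
    intro x
    change rep e m (p * q) x = rep e m p (rep e m q x)
    rw [map_mul]
    rfl

@[simp] lemma act_apply (p : Pt k A) (x : R) : act e m hm p x = rep e m p x := rfl

lemma isRatA_act : IsRatA (act e m hm) := isRat_rep e m

end alg

section stable

variable {M : Type u} [AddCommGroup M] [Module k M] (m : VecGrp.GMod G M)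
variable {H : Over (Spec (CommRingCat.of k))} [GrpObj H]

lemma mem_baseChange_k {W : Submodule k M} {x : M} : (1 : k) ⊗ₜ[k] x ∈ W.baseChange k ↔ x ∈ W := by
  constructor
  · intro h
    have h1 : ∀ y ∈ W.baseChange k, TensorProduct.lid k M y ∈ W := by
      intro y hy
      rw [Submodule.baseChange_eq_span] at hy
      induction hy using Submodule.span_induction with
      | mem y hy =>
        obtain ⟨w, hw, rfl⟩ := hy
        change TensorProduct.lid k M ((1 : k) ⊗ₜ[k] w) ∈ W
        rw [TensorProduct.lid_tmul, one_smul]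
        exact hw
      | zero => rw [map_zero]; exact W.zero_mem
      | add a b _ _ ha hb => rw [map_add]; exact W.add_mem ha hb
      | smul c a _ ha => rw [map_smul]; exact W.smul_mem _ ha
    have := h1 _ h
    rwa [TensorProduct.lid_tmul, one_smul] at this
  · intro h
    exact Submodule.tmul_mem_baseChange_of_mem _ h

/-- Stable subspaces are stable under the points. -/
lemma stable_of_isStable (i : H ⟶ G) [IsMonHom i] {W : Submodule k M} (h : m.IsStable i W) (p : Pt k A)
    (hp : p ∈ psub e i) (x : M) (hx : x ∈ W) : rep e m p x ∈ W := by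
  obtain ⟨g, rfl⟩ := hp
  have h1 := h k g x hx
  rw [ρ_k e] at h1
  exact mem_baseChange_k.1 h1

lemma psub_id : psub e (𝟙 G) = ⊤ := by
  rw [eq_top_iff]
  intro p _
  exact ⟨(ptE e k).symm p, by rw [Category.comp_id, MulEquiv.apply_symm_apply]⟩

lemma stable_of_isStable_id {W : Submodule k M} (h : m.IsStable (𝟙 G) W) (p : Pt k A) (x : M) (hx : x ∈ W) :
    rep e m p x ∈ W :=
  stable_of_isStable e m (𝟙 G) h p (by rw [psub_id]; trivial) x hx

variable [IsAlgClosed k] [Algebra.FiniteType k A] [_root_.IsReduced A]

lemma coact_mem {W : Submodule k M} {x : M} (h : ∀ p : Pt k A, rep e m p x ∈ W) :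
    ∃ t : A ⊗[k] W, coact e m x = LinearMap.lTensor A W.subtype t := by
  obtain ⟨t, ht⟩ := (isRat_rep e m x).codRestrict W h
  refine ⟨t, eq_of_ev (K := k) fun g => ?_⟩
  rw [ev_lTensor, ← ht]
  exact (rep_apply e m g x).symm

/-- A subspace stable under the points is stable. -/
lemma isStable_id_of_forall {W : Submodule k M} (h : ∀ (p : Pt k A), ∀ x ∈ W, rep e m p x ∈ W) :
    m.IsStable (𝟙 G) W := by
  intro B _ _ g x hx
  obtain ⟨t, ht⟩ := coact_mem e m fun p => h p x hx
  rw [ρ_one_tmul e, ht]
  clear ht
  induction t using TensorProduct.induction_on with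
  | zero => rw [map_zero, map_zero]; exact zero_mem _
  | tmul a w =>
    rw [LinearMap.lTensor_tmul, VecGrp.Wmap_tmul]
    exact Submodule.tmul_mem_baseChange_of_mem _ w.2
  | add a b ha hb => rw [map_add, map_add]; exact add_mem ha hb

end stable

section ofRat

variable [IsAlgClosed k] [Algebra.FiniteType k A] [_root_.IsReduced A]
variable {M : Type v} [AddCommGroup M] [Module k M]

/-- The coaction of a rational representation. -/
theorem exists_coact {ρ : Representation k (Pt k A) M} (h : IsRat ρ) :
    ∃ δ : M →ₗ[k] A ⊗[k] M, IsCoact ρ δ := by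
  choose t ht using h
  replace ht : ∀ x g, ρ g x = K497.Rat.ev M g (t x) := ht
  refine ⟨{ toFun := t, map_add' := fun x y => ?_, map_smul' := fun c x => ?_ }, fun p x => ?_⟩
  · apply eq_of_ev (K := k)
    intro g
    rw [map_add, ← ht, ← ht, ← ht, map_add]
  · apply eq_of_ev (K := k)
    intro g
    rw [map_smul, ← ht, ← ht, RingHom.id_apply, map_smul]
  · exact (ht x p).symm

/-- A rational representation comes from a rational module. -/
theorem exists_gmod_of_isRat {ρ : Representation k (Pt k A) M} (h : IsRat ρ) :
    ∃ m : VecGrp.GMod G M, rep e m = ρ := by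
  obtain ⟨δ, hδ⟩ := exists_coact h
  exact ⟨ofRep e ρ δ hδ, rep_ofRep e ρ δ hδ⟩

/-- Multiplicativity can be tested on points. -/
theorem isMult_of_forall {R : Type u} [CommRing R] [Algebra k R] (m : VecGrp.GMod G R)
    (h1 : ∀ p : Pt k A, rep e m p (1 : R) = 1)
    (h : ∀ (p : Pt k A) (x y : R), rep e m p (x * y) = rep e m p x * rep e m p y) : m.IsMult := by
  have hc1 : coact e m (1 : R) = 1 := by
    apply eq_of_ev (K := k)
    intro g
    have h2 : K497.Rat.ev R g 1 = 1 := by rw [← evA_apply, map_one]
    rw [h2]
    exact (rep_apply e m g 1).symm.trans (h1 g)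
  have hc : ∀ x y : R, coact e m (x * y) = coact e m x * coact e m y := by
    intro x y
    apply eq_of_ev (K := k)
    intro g
    have h2 : K497.Rat.ev R g (coact e m x * coact e m y) =
        K497.Rat.ev R g (coact e m x) * K497.Rat.ev R g (coact e m y) := by
      rw [← evA_apply, map_mul, evA_apply, evA_apply]
    rw [h2]
    exact (rep_apply e m g _).symm.trans ((h g x y).trans (congrArg₂ _ (rep_apply e m g x) (rep_apply e m g y)))
  intro B _ _ g
  let ψ : A ⊗[k] R →ₐ[k] B ⊗[k] R := Algebra.TensorProduct.map (ptE e B g).ofConv (AlgHom.id k R)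
  have hψ : ∀ t, VecGrp.Wmap (M := R) (ptE e B g).ofConv t = ψ t := by
    intro t
    induction t using TensorProduct.induction_on with
    | zero => rw [map_zero, map_zero]
    | tmul a x => rfl
    | add a b ha hb => rw [map_add, map_add, ha, hb]
  constructor
  · intro x y
    induction x using TensorProduct.induction_on with
    | zero => rw [zero_mul, map_zero, zero_mul]
    | add a b ha hb => rw [add_mul, map_add, map_add, add_mul, ha, hb]
    | tmul b x =>
      induction y using TensorProduct.induction_on with
      | zero => rw [mul_zero, map_zero, mul_zero]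
      | add a b ha hb => rw [mul_add, map_add, map_add, mul_add, ha, hb]
      | tmul c y =>
        rw [Algebra.TensorProduct.tmul_mul_tmul, ρ_tmul e, ρ_tmul e, ρ_tmul e, hc, hψ, hψ, hψ, map_mul,
          smul_mul_smul_comm]
  · rw [Algebra.TensorProduct.one_def, ρ_one_tmul e, hc1, hψ, map_one, Algebra.TensorProduct.one_def]

/-- A rational action on an algebra comes from a multiplicative rational module. -/
theorem exists_gmod_of_isRatA {R : Type u} [CommRing R] [Algebra k R] {σ : Pt k A →* (R →ₐ[k] R)} (h : IsRatA σ) :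
    ∃ m : VecGrp.GMod G R, rep e m = toRep σ ∧ m.IsMult := by
  obtain ⟨m, hm⟩ := exists_gmod_of_isRat e h.isRat
  refine ⟨m, hm, isMult_of_forall e m (fun p => ?_) fun p x y => ?_⟩
  · rw [hm]; exact map_one (σ p)
  · rw [hm]; exact map_mul (σ p) x y

end ofRat

section red

variable [IsAlgClosed k] [Algebra.FiniteType k A] [_root_.IsReduced A]

include e in
theorem invFG_of_isReductiveGrp [IsAffine G.left] [Smooth G.hom] (hG : VecGrp.IsReductiveGrp k G)
    (thmA : VecGrp.ReductiveInvariantsFG k) : InvFG k A := by
  intro R _ _ _ σ hσ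
  obtain ⟨m, hm, hmult⟩ := exists_gmod_of_isRatA e hσ
  obtain ⟨s, hs, hs'⟩ := thmA G hG R m hmult inferInstance
  have h1 : ∀ x, x ∈ m.fixedUnder (𝟙 G) ↔ x ∈ fixA σ ⊤ := by
    intro x
    rw [mem_fixedUnder_iff_psub e (𝟙 G) m x, psub_id, hm]
    rfl
  refine ⟨s, le_antisymm ?_ ?_⟩
  · rw [Algebra.adjoin_le_iff]
    intro x hx
    exact (h1 x).1 (hs hx)
  · intro x hx
    exact hs' ((h1 x).2 hx)

include e in
theorem geomRed_of_isReductiveGrp [IsAffine G.left] [Smooth G.hom] (hG : VecGrp.IsReductiveGrp k G)
    (thmA : VecGrp.ReductiveInvariantsFG k) : GeomRed k A :=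
  geomRed_of_invFG (invFG_of_isReductiveGrp e hG thmA)

end red

end

end K497.GM
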