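import Groth.Agent.AGF.K497.Rat
import Mathlib.LinearAlgebra.SymmetricAlgebra.Basis
import Mathlib.RingTheory.PolynomialAlgebra
import Mathlib.RingTheory.FiniteType

/-!
# Geometric reductivity for groups of points

* `GeomRed K A`: for every finite-dimensional algebraic representation `V` and every nonzero invariant linear form `φ`
  there is an invariant of positive degree in the symmetric algebra of `V` which `φ` maps to a power of the variable;
* `InvFG K A`: invariants of rational actions on finitely generated algebras are finitely generated;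
* `geomRed_of_invFG : InvFG K A → GeomRed K A`;
* `GeomRed.lift`: power lifting of invariants of quotients.
-/

set_option autoImplicit false

universe u w w'

open TensorProduct Groth.Agent.Sga3B.RG Polynomial

namespace K497.Rat

section Sym

variable {K : Type u} [Field K] {A : Type u} [CommRing A] [HopfAlgebra K A]
variable {V : Type w} [AddCommGroup V] [Module K V]

/-- The action on the symmetric algebra. -/
noncomputable def symAct (ρ : Representation K (Pt K A) V) :
    Pt K A →* (SymmetricAlgebra K V →ₐ[K] SymmetricAlgebra K V) where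
  toFun g := SymmetricAlgebra.lift (SymmetricAlgebra.ι K V ∘ₗ ρ g)
  map_one' := by
    apply SymmetricAlgebra.algHom_ext
    ext v
    simp
  map_mul' g h := by
    apply SymmetricAlgebra.algHom_ext
    ext v
    simp

@[simp] lemma symAct_ι (ρ : Representation K (Pt K A) V) (g : Pt K A) (v : V) :
    symAct ρ g (SymmetricAlgebra.ι K V v) = SymmetricAlgebra.ι K V (ρ g v) := by
  simp [symAct]

lemma adjoin_range_ι : Algebra.adjoin K (Set.range (SymmetricAlgebra.ι K V)) = ⊤ := by
  rw [eq_top_iff]
  intro x _
  induction x using SymmetricAlgebra.induction with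
  | algebraMap r => exact Subalgebra.algebraMap_mem _ _
  | ι x => exact Algebra.subset_adjoin ⟨x, rfl⟩
  | mul a b ha hb => exact mul_mem (ha trivial) (hb trivial)
  | add a b ha hb => exact add_mem (ha trivial) (hb trivial)

lemma IsRat.symAct {ρ : Representation K (Pt K A) V} (h : IsRat ρ) : IsRatA (symAct ρ) := by
  refine isRatA_of_adjoin adjoin_range_ι ?_
  rintro _ ⟨v, rfl⟩
  exact ((h v).map (SymmetricAlgebra.ι K V)).congr fun g => by simp

instance finiteType_symmetricAlgebra [FiniteDimensional K V] : Algebra.FiniteType K (SymmetricAlgebra K V) :=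
  Algebra.FiniteType.equiv (inferInstance : Algebra.FiniteType K (MvPolynomial (Fin (Module.finrank K V)) K))
    (SymmetricAlgebra.equivMvPolynomial (Module.finBasis K V)).symm

/-- The algebra map from the symmetric algebra to polynomials in one variable given by a linear form. -/
noncomputable def symTo (φ : V →ₗ[K] K) : SymmetricAlgebra K V →ₐ[K] K[X] :=
  SymmetricAlgebra.lift ((LinearMap.toSpanSingleton K K[X] X) ∘ₗ φ)

@[simp] lemma symTo_ι (φ : V →ₗ[K] K) (v : V) : symTo φ (SymmetricAlgebra.ι K V v) = φ v • (X : K[X]) := by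
  simp [symTo, LinearMap.toSpanSingleton_apply]

lemma symTo_symAct {ρ : Representation K (Pt K A) V} {φ : V →ₗ[K] K} (hφ : ∀ g v, φ (ρ g v) = φ v) (g : Pt K A)
    (s : SymmetricAlgebra K V) : symTo φ (symAct ρ g s) = symTo φ s := by
  have : (symTo φ).comp (symAct ρ g) = symTo φ := by
    apply SymmetricAlgebra.algHom_ext
    ext v : 1
    simp [hφ]
  exact DFunLike.congr_fun this s

variable (K V) in
/-- The grading of the symmetric algebra, as a map to polynomials over it. -/
noncomputable def symDeg : SymmetricAlgebra K V →ₐ[K] (SymmetricAlgebra K V)[X] :=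
  SymmetricAlgebra.lift (((Polynomial.monomial 1).restrictScalars K) ∘ₗ SymmetricAlgebra.ι K V)

@[simp] lemma symDeg_ι (v : V) : symDeg K V (SymmetricAlgebra.ι K V v) =
    monomial 1 (SymmetricAlgebra.ι K V v) := by
  simp [symDeg]

lemma polyAct_symDeg (ρ : Representation K (Pt K A) V) (g : Pt K A) (s : SymmetricAlgebra K V) :
    polyAct (symAct ρ) g (symDeg K V s) = symDeg K V (symAct ρ g s) := by
  have : (polyAct (symAct ρ) g).comp (symDeg K V) = (symDeg K V).comp (symAct ρ g) := by
    apply SymmetricAlgebra.algHom_ext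
    ext v : 1
    simp [polyAct]
  exact DFunLike.congr_fun this s

lemma symTo_coeff_symDeg (φ : V →ₗ[K] K) (s : SymmetricAlgebra K V) (n : ℕ) :
    symTo φ ((symDeg K V s).coeff n) = monomial n ((symTo φ s).coeff n) := by
  let θ : K[X] →ₐ[K] K[X][X] := Polynomial.aeval (monomial 1 (X : K[X]))
  have h1 : (Polynomial.mapAlgHom (symTo φ)).comp (symDeg K V) = θ.comp (symTo φ) := by
    apply SymmetricAlgebra.algHom_ext
    ext v : 1
    change Polynomial.map _ (symDeg K V (SymmetricAlgebra.ι K V v)) = θ (symTo φ (SymmetricAlgebra.ι K V v))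
    rw [symDeg_ι, symTo_ι, Polynomial.map_monomial, map_smul]
    change monomial 1 (symTo φ (SymmetricAlgebra.ι K V v)) = φ v • aeval (monomial 1 (X : K[X])) (X : K[X])
    rw [symTo_ι, aeval_X, Polynomial.smul_monomial]
  have h2 : ∀ p : K[X], (θ p).coeff n = monomial n (p.coeff n) := by
    intro p
    induction p using Polynomial.induction_on' with
    | add p q hp hq => rw [map_add, coeff_add, coeff_add, hp, hq, map_add]
    | monomial m a =>
      have h3 : θ (monomial m a) = monomial m (monomial m a) := by
        change aeval (monomial 1 (X : K[X])) (monomial m a) = _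
        rw [aeval_monomial, monomial_pow, _root_.one_mul, ← Algebra.smul_def, smul_monomial, ← monomial_one_right_eq_X_pow,
          smul_monomial, smul_eq_mul, _root_.mul_one]
      rw [h3, coeff_monomial, coeff_monomial]
      split_ifs with h
      · rw [h]
      · rw [map_zero]
  have h3 := DFunLike.congr_fun h1 s
  have h4 := congrArg (fun p => p.coeff n) h3
  simp only [AlgHom.comp_apply] at h4
  rw [h2] at h4
  rw [← h4]
  exact (Polynomial.coeff_map _ _).symm

end Sym

section Defs

variable (K : Type u) [Field K] (A : Type u) [CommRing A] [HopfAlgebra K A]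

/-- Geometric reductivity. -/
def GeomRed : Prop :=
  ∀ (V : Type u) [AddCommGroup V] [Module K V] [FiniteDimensional K V] (ρ : Representation K (Pt K A) V),
    IsAlg ρ → ∀ φ : V →ₗ[K] K, (∀ g v, φ (ρ g v) = φ v) → φ ≠ 0 →
      ∃ n > 0, ∃ F : SymmetricAlgebra K V, (∀ g, symAct ρ g F = F) ∧ symTo φ F = X ^ n

/-- Finite generation of invariants of rational actions on finitely generated algebras. -/
def InvFG : Prop :=
  ∀ (R : Type u) [CommRing R] [Algebra K R] [Algebra.FiniteType K R] (σ : Pt K A →* (R →ₐ[K] R)),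
    IsRatA σ → (fixA σ ⊤).FG

end Defs

section Main

variable {K : Type u} [Field K] {A : Type u} [CommRing A] [HopfAlgebra K A]
variable {R : Type w} [CommRing R] [Algebra K R] {R' : Type w'} [CommRing R'] [Algebra K R']

/-- The action on a product of algebras. -/
noncomputable def prodAct (σ : Pt K A →* (R →ₐ[K] R)) (τ : Pt K A →* (R' →ₐ[K] R')) :
    Pt K A →* (R × R' →ₐ[K] R × R') where
  toFun g := AlgHom.prodMap (σ g) (τ g)
  map_one' := by
    apply AlgHom.ext
    intro x
    change (σ 1 x.1, τ 1 x.2) = x
    rw [act_one, act_one]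
  map_mul' g h := by
    apply AlgHom.ext
    intro x
    change (σ (g * h) x.1, τ (g * h) x.2) = (σ g (σ h x.1), τ g (τ h x.2))
    rw [act_mul, act_mul]

@[simp] lemma prodAct_apply (σ : Pt K A →* (R →ₐ[K] R)) (τ : Pt K A →* (R' →ₐ[K] R')) (g : Pt K A) (x : R × R') :
    prodAct σ τ g x = (σ g x.1, τ g x.2) := rfl

lemma IsRatA.prodAct {σ : Pt K A →* (R →ₐ[K] R)} (h : IsRatA σ) {τ : Pt K A →* (R' →ₐ[K] R')} (h' : IsRatA τ) :
    IsRatA (prodAct σ τ) := by
  intro x
  refine (((h x.1).map (LinearMap.inl K R R')).add ((h' x.2).map (LinearMap.inr K R R'))).congr fun g => ?_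
  simp

/-- The trivial action is rational. -/
lemma isRatA_one : IsRatA (1 : Pt K A →* (R →ₐ[K] R)) := fun r => isPol_const r

theorem geomRed_of_invFG (h : InvFG K A) : GeomRed K A := by
  classical
  intro V _ _ _ ρ hρ φ hφ hφ0
  set S := SymmetricAlgebra K V
  have hrat : IsRatA (symAct ρ) := (isRat_of_isAlg hρ).symAct
  -- it is enough to find an invariant with nonconstant image
  suffices H : ∃ s : S, (∀ g, symAct ρ g s = s) ∧ 0 < (symTo φ s).natDegree by
    obtain ⟨s, hs, hd⟩ := H
    refine ⟨(symTo φ s).natDegree, hd, ((symTo φ s).leadingCoeff)⁻¹ • (symDeg K V s).coeff (symTo φ s).natDegree,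
      fun g => ?_, ?_⟩
    · rw [map_smul]
      congr 1
      have h1 := polyAct_symDeg ρ g s
      rw [hs g] at h1
      conv_rhs => rw [← h1]
      exact (Polynomial.coeff_map _ _).symm
    · rw [map_smul, symTo_coeff_symDeg, smul_monomial, smul_eq_mul]
      change monomial _ ((symTo φ s).leadingCoeff⁻¹ * (symTo φ s).leadingCoeff) = X ^ _
      rw [inv_mul_cancel₀, monomial_one_right_eq_X_pow]
      intro h0
      rw [leadingCoeff_eq_zero] at h0
      rw [h0, natDegree_zero] at hd
      exact lt_irrefl _ hd
  by_contra hcon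
  push Not at hcon
  -- the algebra
  let Θ : S[X] →ₐ[K] S × K[X][X] :=
    AlgHom.prod ((Polynomial.aeval (0 : S)).restrictScalars K) (Polynomial.mapAlgHom (symTo φ))
  have hΘ : ∀ P : S[X], Θ P = (P.coeff 0, P.map (symTo φ : S →+* K[X])) := by
    intro P
    change (Polynomial.aeval (0 : S) P, _) = _
    rw [Polynomial.coe_aeval_eq_eval, Polynomial.coeff_zero_eq_eval_zero]
    rfl
  let τ := prodAct (symAct ρ) (1 : Pt K A →* (K[X][X] →ₐ[K] K[X][X]))
  have hτ : IsRatA τ := hrat.prodAct isRatA_one
  have hstab : IsStab τ (Θ.range : Set (S × K[X][X])) := by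
    rintro g _ ⟨P, rfl⟩
    refine ⟨polyAct (symAct ρ) g P, ?_⟩
    change Θ _ = τ g (Θ P)
    rw [hΘ, hΘ]
    change _ = (symAct ρ g (P.coeff 0), P.map (symTo φ : S →+* K[X]))
    ext1
    · exact Polynomial.coeff_map _ _
    · change Polynomial.map _ (Polynomial.map _ P) = _
      rw [Polynomial.map_map]
      congr 1
      exact RingHom.ext fun s => symTo_symAct hφ g s
  have hfs : Algebra.FiniteType K S := inferInstance
  have hft : Algebra.FiniteType K Θ.range := by
    have h1 : Algebra.FiniteType K S[X] := Algebra.FiniteType.trans hfs inferInstance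
    exact Algebra.FiniteType.of_surjective Θ.rangeRestrict Θ.rangeRestrict_surjective
  have hfg := h Θ.range (resAct τ Θ.range hstab) (hτ.resAct _ _)
  let F : Subalgebra K Θ.range := fixA (R := Θ.range) (resAct τ Θ.range hstab) ⊤
  let E : Subalgebra K K[X][X] := F.map ((AlgHom.snd K S K[X][X]).comp Θ.range.val)
  have hfg' : E.FG := hfg.map ((AlgHom.snd K S K[X][X]).comp Θ.range.val)
  obtain ⟨s, hs⟩ := hfg'
  have hE0 : ∀ e ∈ E, (e.coeff 0).natDegree = 0 := by
    rintro _ ⟨⟨_, P, rfl⟩, hq, rfl⟩
    have h1 : ∀ g, symAct ρ g (P.coeff 0) = P.coeff 0 := by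
      intro g
      have h2 := congrArg Subtype.val (hq g trivial)
      change τ g (Θ P) = Θ P at h2
      rw [hΘ] at h2
      exact congrArg Prod.fst h2
    have h2 := hcon _ h1
    change ((Θ P).2.coeff 0).natDegree = 0
    rw [hΘ]
    change ((Polynomial.map (symTo φ : S →+* K[X]) P).coeff 0).natDegree = 0
    rw [Polynomial.coeff_map]
    exact Nat.le_zero.1 h2
  let W : Submodule K K[X] := Submodule.span K ((fun e : K[X][X] => e.coeff 1) '' (s : Set K[X][X]))
  have hW : ∀ e ∈ E, e.coeff 1 ∈ W := by
    intro e he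
    rw [← hs] at he
    induction he using Algebra.adjoin_induction with
    | mem x hx => exact Submodule.subset_span ⟨x, hx, rfl⟩
    | algebraMap r =>
      have : (algebraMap K K[X][X] r).coeff 1 = 0 := by
        rw [Polynomial.algebraMap_apply, Polynomial.coeff_C_of_ne_zero one_ne_zero]
      rw [this]
      exact W.zero_mem
    | add x y hx hy hx' hy' => rw [coeff_add]; exact W.add_mem hx' hy'
    | mul x y hx hy hx' hy' =>
      rw [hs] at hx hy
      have h1 := hE0 x hx
      have h2 := hE0 y hy
      rw [Polynomial.natDegree_eq_zero] at h1 h2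
      obtain ⟨c, hc⟩ := h1
      obtain ⟨d, hd⟩ := h2
      have h3 : (x * y).coeff 1 = d • x.coeff 1 + c • y.coeff 1 := by
        rw [Polynomial.mul_coeff_one, ← hc, ← hd, Polynomial.smul_eq_C_mul, Polynomial.smul_eq_C_mul]
        ring
      rw [h3]
      exact W.add_mem (W.smul_mem _ hx') (W.smul_mem _ hy')
  obtain ⟨v, hv⟩ : ∃ v, φ v = 1 := by
    obtain ⟨v, hv⟩ : ∃ v, φ v ≠ 0 := by
      by_contra! hc
      exact hφ0 (LinearMap.ext hc)
    exact ⟨(φ v)⁻¹ • v, by rw [map_smul, smul_eq_mul, inv_mul_cancel₀ hv]⟩
  have hX : ∀ n : ℕ, (X : K[X]) ^ n ∈ W := by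
    intro n
    have h1 : (Θ (monomial 1 ((SymmetricAlgebra.ι K V v) ^ n))) = (0, monomial 1 (X ^ n)) := by
      rw [hΘ, coeff_monomial, if_neg one_ne_zero, Polynomial.map_monomial]
      congr 2
      change symTo φ _ = _
      rw [map_pow, symTo_ι, hv, one_smul]
    have h2 : (monomial 1 ((X : K[X]) ^ n)) ∈ E := by
      refine ⟨⟨Θ (monomial 1 ((SymmetricAlgebra.ι K V v) ^ n)), _, rfl⟩, fun g _ => ?_, ?_⟩
      · apply Subtype.ext
        change τ g (Θ _) = Θ _
        rw [h1]
        change (symAct ρ g 0, _) = _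
        rw [map_zero]
        rfl
      · change (Θ _).2 = _
        rw [h1]
    have h3 := hW _ h2
    rwa [coeff_monomial, if_pos rfl] at h3
  have hWtop : W = ⊤ := by
    rw [eq_top_iff]
    intro p _
    induction p using Polynomial.induction_on' with
    | add p q hp hq => exact W.add_mem (hp trivial) (hq trivial)
    | monomial m a =>
      rw [← _root_.mul_one a, ← smul_eq_mul, ← smul_monomial, monomial_one_right_eq_X_pow]
      exact W.smul_mem _ (hX m)
  have hWf : Module.Finite K W := by
    refine Module.Finite.iff_fg.2 ⟨s.image (fun e : K[X][X] => e.coeff 1), ?_⟩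
    rw [Finset.coe_image]
  rw [hWtop] at hWf
  exact Polynomial.not_finite (R := K) (Module.Finite.equiv (Submodule.topEquiv (R := K) (M := K[X])))

end Main

end K497.Rat
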