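import Groth.Agent.AGF.K497.Weight

/-!
# The height filtration of a rational representation

`lam` a cocharacter of the connected group with coordinate ring `A`, `ρ` a rational representation.
`Fil lam hρ n`: the largest subrepresentation all of whose weights are at most `n`.
-/

set_option autoImplicit false

universe u w w'

open TensorProduct Groth.Agent.Sga3B.RG K497.Rat
open scoped LaurentPolynomial

namespace K497.Wgt

section

variable {K : Type u} [Field K] [Infinite K] {A : Type u} [CommRing A] [HopfAlgebra K A]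
variable {M : Type w} [AddCommGroup M] [Module K M] {ρ : Representation K (Pt K A) M}

/-- The largest subrepresentation with weights at most `n`. -/
noncomputable def Fil (lam : A →ₐc[K] K[T;T⁻¹]) (hρ : IsRat ρ) (n : ℤ) : Submodule K M where
  carrier := {v | ∀ g, ∀ m, n < m → (isGm_cop hρ lam).P m (ρ g v) = 0}
  add_mem' ha hb g m hm := by rw [map_add, map_add, ha g m hm, hb g m hm, add_zero]
  zero_mem' g m _ := by rw [map_zero, map_zero]
  smul_mem' c v hv g m hm := by rw [map_smul, map_smul, hv g m hm, smul_zero]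

variable {lam : A →ₐc[K] K[T;T⁻¹]} (hρ : IsRat ρ)

lemma mem_Fil {n : ℤ} {v : M} : v ∈ Fil lam hρ n ↔ ∀ g, ∀ m, n < m → (isGm_cop hρ lam).P m (ρ g v) = 0 := Iff.rfl

lemma Fil_mono {n m : ℤ} (h : n ≤ m) : Fil lam hρ n ≤ Fil lam hρ m := fun _ hv g i hi => hv g i (lt_of_le_of_lt h hi)

lemma Fil_stable {n : ℤ} {v : M} (hv : v ∈ Fil lam hρ n) (g : Pt K A) : ρ g v ∈ Fil lam hρ n := by
  intro h m hm
  have := hv (h * g) m hm
  rwa [map_mul, Module.End.mul_apply] at this

lemma P_eq_zero_of_mem_Fil {n : ℤ} {v : M} (hv : v ∈ Fil lam hρ n) {m : ℤ} (hm : n < m) :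
    (isGm_cop hρ lam).P m v = 0 := by
  have := hv 1 m hm
  rwa [map_one, Module.End.one_apply] at this

/-- Finitely many weights occur in an orbit. -/
lemma exists_finset_weights {F : Pt K A → M} (hF : IsPol F) :
    ∃ S : Finset ℤ, ∀ g, ∀ m ∉ S, (isGm_cop hρ lam).P m (F g) = 0 := by
  classical
  obtain ⟨t, ht⟩ := hF
  obtain ⟨s, hs⟩ := exists_span t
  refine ⟨s.biUnion fun v => ((isGm_cop hρ lam).dec v).support, fun g m hm => ?_⟩
  have h1 : Submodule.span K (s : Set M) ≤ LinearMap.ker ((isGm_cop hρ lam).P m) := by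
    rw [Submodule.span_le]
    intro v hv
    rw [SetLike.mem_coe, LinearMap.mem_ker]
    refine Finsupp.notMem_support_iff.1 fun h => hm ?_
    exact Finset.mem_biUnion.2 ⟨v, hv, h⟩
  have := h1 (hs g)
  rw [ht]
  exact this

/-- The filtration is exhaustive. -/
lemma exists_mem_Fil (v : M) : ∃ n : ℕ, v ∈ Fil lam hρ n := by
  obtain ⟨S, hS⟩ := exists_finset_weights (lam := lam) hρ (hρ v)
  refine ⟨S.sup Int.natAbs, fun g m hm => hS g m fun h => ?_⟩
  have h1 := Finset.le_sup (f := Int.natAbs) h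
  lia

/-- The filtration is compatible with the projections. -/
lemma P_mem_Fil {n : ℤ} {v : M} (hv : v ∈ Fil lam hρ n) (k : ℤ) : (isGm_cop hρ lam).P k v ∈ Fil lam hρ n := by
  intro g m hm
  by_cases hk : k ∈ ((isGm_cop hρ lam).dec v).support
  · refine WtDec.vec_eq_zero (χ := gmChar K) gmChar_injective ((isGm_cop hρ lam).dec v).support
      (fun k => (isGm_cop hρ lam).P m (ρ g ((isGm_cop hρ lam).P k v))) (fun t => ?_) k hk
    have h1 := Fil_stable hρ hv (cochPt lam t) g m hm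
    have h2 := (isGm_cop hρ lam).tau_eq' v t
    rw [MonoidHom.comp_apply] at h2
    rw [h2, map_sum, map_sum] at h1
    rw [← h1]
    refine Finset.sum_congr rfl fun i _ => ?_
    rw [map_smul, map_smul, gmChar_apply]
  · rw [show (isGm_cop hρ lam).P k v = 0 from Finsupp.notMem_support_iff.1 hk, map_zero, map_zero]

/-- Components of fixed vectors. -/
lemma P_fixed {H : Subgroup (Pt K A)} (hH : ∀ t, ∀ u ∈ H, (cochPt lam t)⁻¹ * u * cochPt lam t ∈ H) {x : M}
    (hx : ∀ u ∈ H, ρ u x = x) {u : Pt K A} (hu : u ∈ H) (n : ℤ) :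
    ρ u ((isGm_cop hρ lam).P n x) = (isGm_cop hρ lam).P n x := by
  by_cases hk : n ∈ ((isGm_cop hρ lam).dec x).support
  · rw [← sub_eq_zero]
    refine WtDec.vec_eq_zero (χ := gmChar K) gmChar_injective ((isGm_cop hρ lam).dec x).support
      (fun n => ρ u ((isGm_cop hρ lam).P n x) - (isGm_cop hρ lam).P n x) (fun t => ?_) n hk
    have h1 : ρ u (ρ (cochPt lam t) x) = ρ (cochPt lam t) x := by
      have h3 := hx _ (hH t u hu)
      have h2 : u * cochPt lam t = cochPt lam t * ((cochPt lam t)⁻¹ * u * cochPt lam t) := by group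
      rw [← Module.End.mul_apply, ← map_mul, h2, map_mul, Module.End.mul_apply, h3]
    have h2 := (isGm_cop hρ lam).tau_eq' x t
    rw [MonoidHom.comp_apply] at h2
    simp_rw [gmChar_apply, smul_sub, Finset.sum_sub_distrib]
    rw [← h2, sub_eq_zero, ← h1, h2, map_sum]
    exact Finset.sum_congr rfl fun i _ => (map_smul _ _ _).symm
  · rw [show (isGm_cop hρ lam).P n x = 0 from Finsupp.notMem_support_iff.1 hk, map_zero]

omit [Infinite K] in
lemma cochPt_mem_Zsub (lam : A →ₐc[K] K[T;T⁻¹]) (t : Kˣ) : cochPt lam t ∈ Zsub lam := by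
  rw [mem_Zsub]
  intro s
  rw [← map_mul, ← map_mul, mul_comm]

/-- The top component is fixed by `U(λ)`. -/
lemma fixed_of_mem_Fil {n : ℤ} {v : M} (hv : v ∈ Fil lam hρ n) {u : Pt K A} (hu : u ∈ Usub lam) :
    ρ u ((isGm_cop hρ lam).P n v) = (isGm_cop hρ lam).P n v := by
  have h1 := P_mem_Fil hρ hv n
  have h2 := P_mem_cwt (lam := lam) hρ n v
  set x := (isGm_cop hρ lam).P n v with hx
  have h3 : ∀ m ∉ ({n} : Finset ℤ), (isGm_cop hρ lam).P m (ρ u x) = 0 := by
    intro m hm
    rw [Finset.mem_singleton] at hm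
    rcases lt_or_gt_of_ne hm with h | h
    · exact P_eq_zero_of_mem_Psub hρ h2 (Usub_le_Psub lam hu) h
    · exact h1 u m h
  rw [← (isGm_cop hρ lam).sum_P (ρ u x) {n} h3, Finset.sum_singleton]
  exact P_eq_self_of_mem_Usub hρ h2 hu

/-- `U(-λ)` does not change the top component. -/
lemma P_Usub_inv {n : ℤ} {v : M} (hv : ∀ m, n < m → (isGm_cop hρ lam).P m v = 0) {u : Pt K A}
    (hu : u ∈ Usub (invCoch lam)) : (isGm_cop hρ lam).P n (ρ u v) = (isGm_cop hρ lam).P n v := by
  classical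
  set S := ((isGm_cop hρ lam).dec v).support ∪ {n} with hS
  have hS' : ∀ m ∉ S, (isGm_cop hρ lam).P m v = 0 := fun m hm =>
    Finsupp.notMem_support_iff.1 fun h => hm (Finset.mem_union_left _ h)
  conv_lhs => rw [← (isGm_cop hρ lam).sum_P v S hS', map_sum, map_sum]
  rw [Finset.sum_eq_single n]
  · exact P_eq_self_of_mem_Usub_inv hρ (P_mem_cwt hρ n v) hu
  · intro m _ hm
    rcases lt_or_gt_of_ne hm with h | h
    · exact P_eq_zero_of_mem_Psub_inv hρ (P_mem_cwt hρ m v) (Usub_le_Psub _ hu) h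
    · rw [hv m h, map_zero, map_zero]
  · intro h
    exact absurd (Finset.mem_union_right _ (Finset.mem_singleton_self n)) h

/-- Weight vectors: `U(-λ)` and the upper weights. -/
lemma P_Usub_inv_gt {n : ℤ} {v : M} (hv : ∀ m, n < m → (isGm_cop hρ lam).P m v = 0) {u : Pt K A}
    (hu : u ∈ Usub (invCoch lam)) {m : ℤ} (hm : n < m) : (isGm_cop hρ lam).P m (ρ u v) = 0 := by
  rw [P_Usub_inv hρ (fun i hi => hv i (hm.trans hi)) hu, hv m hm]

end

section Dom

variable {K : Type u} [Field K] [IsAlgClosed K] {A : Type u} [CommRing A] [HopfAlgebra K A]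
variable [Algebra.FiniteType K A] [IsDomain A]
variable {M : Type w} [AddCommGroup M] [Module K M] {ρ : Representation K (Pt K A) M}
variable {lam : A →ₐc[K] K[T;T⁻¹]}

/-- Polynomial maps are determined by their values on the open cell. -/
lemma pol_eq_of_cell {F F' : Pt K A → M} (hF : IsPol F) (hF' : IsPol F')
    (h : ∀ u ∈ Usub (invCoch lam), ∀ p ∈ Psub lam, F (u * p) = F' (u * p)) (g : Pt K A) : F g = F' g := by
  rw [← sub_eq_zero, ← Module.forall_dual_apply_eq_zero_iff K]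
  intro f
  obtain ⟨a, ha⟩ := isPol_iff_isFun.1 ((hF.sub hF').map f)
  replace ha : ∀ g : Pt K A, f (F g - F' g) = g a := ha
  rw [ha]
  refine TopVec.eq_zero_of_cell (lam := lam) (fun u hu p hp => ?_) g
  rw [← ha, h u hu p hp, sub_self, map_zero]

omit [IsAlgClosed K] [Algebra.FiniteType K A] [IsDomain A] in
lemma invCoch_invCoch (lam : A →ₐc[K] K[T;T⁻¹]) : ∀ t, cochPt (invCoch (invCoch lam)) t = cochPt lam t := by
  intro t
  rw [cochPt_invCoch, cochPt_invCoch, inv_inv]

omit [IsAlgClosed K] [Algebra.FiniteType K A] [IsDomain A] in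
lemma mem_Usub_invCoch_invCoch {g : Pt K A} : g ∈ Usub (invCoch (invCoch lam)) ↔ g ∈ Usub lam := by
  rw [mem_Usub, mem_Usub]
  simp only [invCoch_invCoch]

omit [IsAlgClosed K] [Algebra.FiniteType K A] [IsDomain A] in
lemma mem_Zsub_invCoch {g : Pt K A} : g ∈ Zsub (invCoch lam) ↔ g ∈ Zsub lam := by
  rw [mem_Zsub, mem_Zsub]
  constructor
  · intro h t
    have h1 := h t⁻¹
    rw [cochPt_invCoch, map_inv, inv_inv] at h1
    exact h1
  · intro h t
    have h1 := h t⁻¹
    rw [map_inv] at h1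
    rw [cochPt_invCoch]
    exact h1

/-- The opposite cell: `U(λ) Z(λ) U(-λ)`. -/
lemma pol_eq_of_cell' {F F' : Pt K A → M} (hF : IsPol F) (hF' : IsPol F')
    (h : ∀ u ∈ Usub lam, ∀ z ∈ Zsub lam, ∀ u' ∈ Usub (invCoch lam), F (u * z * u') = F' (u * z * u'))
    (g : Pt K A) : F g = F' g := by
  refine pol_eq_of_cell (lam := invCoch lam) hF hF' (fun u hu p hp => ?_) g
  obtain ⟨z, hz, u', hu', rfl⟩ := TopVec.exists_ZU hp
  rw [← mul_assoc]
  exact h u (mem_Usub_invCoch_invCoch.1 hu) z (mem_Zsub_invCoch.1 hz) u' hu'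

/-- Highest weight vectors generate representations with smaller weights. -/
lemma mem_Fil_of_fixed (hρ : IsRat ρ) {n : ℤ} {v : M} (hv : v ∈ cwt lam ρ n)
    (hfix : ∀ u ∈ Usub lam, ρ u v = v) : v ∈ Fil lam hρ n := by
  intro g m hm
  refine pol_eq_of_cell (lam := lam) ((hρ v).map ((isGm_cop hρ lam).P m)) (isPol_const 0) (fun u hu p hp => ?_) g
  obtain ⟨z, hz, u', hu', rfl⟩ := TopVec.exists_ZU hp
  rw [map_mul, map_mul, Module.End.mul_apply, Module.End.mul_apply, hfix u' hu']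
  exact P_eq_zero_of_mem_Psub_inv hρ (Zsub_mem_cwt hv hz) (Usub_le_Psub _ hu) hm

end Dom

section Alg

variable {K : Type u} [Field K] [Infinite K] {A : Type u} [CommRing A] [HopfAlgebra K A]
variable {R : Type w} [CommRing R] [Algebra K R] {σ : Pt K A →* (R →ₐ[K] R)}
variable {lam : A →ₐc[K] K[T;T⁻¹]} (hσ : IsRatA σ)

include hσ

omit [Infinite K] hσ in
lemma cop_mul (t : Kˣ) (x y : R) :
    cop lam (toRep σ) t (x * y) = cop lam (toRep σ) t x * cop lam (toRep σ) t y := by
  rw [MonoidHom.comp_apply]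
  exact map_mul (σ (cochPt lam t)) _ _

lemma mul_mem_Fil {n m : ℤ} {x y : R} (hx : x ∈ Fil lam hσ.isRat n) (hy : y ∈ Fil lam hσ.isRat m) :
    x * y ∈ Fil lam hσ.isRat (n + m) := by
  intro g i hi
  rw [toRep_apply, map_mul]
  exact IsGm.P_mul_eq_zero _ cop_mul (hx g) (hy g) hi

lemma P_mul_of_mem_Fil {n m : ℤ} {x y : R} (hx : x ∈ Fil lam hσ.isRat n) (hy : y ∈ Fil lam hσ.isRat m) :
    (isGm_cop hσ.isRat lam).P (n + m) (x * y) =
      (isGm_cop hσ.isRat lam).P n x * (isGm_cop hσ.isRat lam).P m y :=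
  IsGm.P_mul_top _ cop_mul (fun _ hi => P_eq_zero_of_mem_Fil hσ.isRat hx hi)
    (fun _ hi => P_eq_zero_of_mem_Fil hσ.isRat hy hi)

omit [Infinite K] hσ in
lemma algebraMap_mem_cwt (c : K) : algebraMap K R c ∈ cwt lam (toRep σ) 0 := by
  intro t
  rw [MonoidHom.comp_apply, toRep_apply, AlgHom.commutes, gmChar_apply, zpow_zero, Units.val_one, one_smul]

lemma algebraMap_mem_Fil (c : K) : algebraMap K R c ∈ Fil lam hσ.isRat 0 := by
  intro g i hi
  rw [toRep_apply, AlgHom.commutes]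
  exact IsGm.P_ne_of_wt _ (fun t => algebraMap_mem_cwt (σ := σ) (lam := lam) c t) hi.ne'

lemma P_algebraMap (c : K) : (isGm_cop hσ.isRat lam).P 0 (algebraMap K R c) = algebraMap K R c :=
  IsGm.P_self_of_wt _ (fun t => algebraMap_mem_cwt (σ := σ) (lam := lam) c t)

end Alg

end K497.Wgt
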