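import Groth.Agent.AGF.K497.PowLift
import Mathlib.RingTheory.IntegralClosure.IsIntegral.Basic

/-!
# A rational algebra is integral over a stable subalgebra containing the invariants of a group of unipotent points

`GeomRed.isIntegral_of_fix_le`: `K` algebraically closed, the group of points of `A` geometrically reductive, `U` a
subgroup of unipotent points; a rational algebra `R` is integral over every stable subalgebra containing `R^U`.
-/

set_option autoImplicit false

universe u w w'

open TensorProduct Groth.Agent.Sga3B.RG Polynomial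

namespace K497.Rat

section

variable {K : Type u} [Field K] {A : Type u} [CommRing A] [HopfAlgebra K A]
variable {R : Type u} [CommRing R] [Algebra K R]

lemma mem_pow_of_stab {σ : Pt K A →* (R →ₐ[K] R)} {W : Submodule K R} (hW : IsStab σ (W : Set R)) (n : ℕ)
    (g : Pt K A) {r : R} (hr : r ∈ W ^ n) : σ g r ∈ W ^ n := by
  have h1 : (W ^ n).map (σ g).toLinearMap ≤ W ^ n := by
    rw [Submodule.map_pow]
    refine pow_le_pow_left' ?_ n
    rintro _ ⟨w, hw, rfl⟩
    exact hW g w hw
  exact h1 ⟨r, hr, rfl⟩

lemma rees_stab {σ : Pt K A →* (R →ₐ[K] R)} {W : Submodule K R} (hW : IsStab σ (W : Set R)) :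
    IsStab (polyAct σ) ((rees W : Subalgebra K R[X]) : Set R[X]) := by
  intro g P hP n
  rw [polyAct_coeff]
  exact mem_pow_of_stab hW n g (hP n)

end

section

variable {K : Type u} [Field K] {A : Type u} [CommRing A] [HopfAlgebra K A]
variable [IsAlgClosed K]

/-- A unipotent group fixes a nonzero vector modulo a stable subspace. -/
lemma exists_fixed_mod {M : Type w} [AddCommGroup M] [Module K M] {ρ : Representation K (Pt K A) M} (hρ : IsRat ρ)
    {U : Subgroup (Pt K A)} (hU : ∀ g ∈ U, IsUnip g) (J : Submodule K M) (hJ : ∀ g, J ≤ J.comap (ρ g))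
    (W : Submodule K M) (hW : ∀ g ∈ U, ∀ w ∈ W, ρ g w ∈ W) (hWJ : ¬ W ≤ J) :
    ∃ x ∈ W, x ∉ J ∧ ∀ g ∈ U, ρ g x - x ∈ J := by
  obtain ⟨v, ⟨x, hx, rfl⟩, hv0, hv⟩ := (hρ.quotient J hJ).exists_fixed hU (W.map J.mkQ)
    (by
      rintro g hg _ ⟨w, hw, rfl⟩
      exact ⟨_, hW g hg w hw, rfl⟩)
    (fun h => hWJ (by
      intro w hw
      have : J.mkQ w ∈ W.map J.mkQ := ⟨w, hw, rfl⟩
      rw [h, Submodule.mem_bot] at this
      simpa using this))
  refine ⟨x, hx, fun h => hv0 ((Submodule.Quotient.mk_eq_zero J).2 h), fun g hg => ?_⟩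
  have := hv g hg
  exact (Submodule.Quotient.eq J).1 this

variable [Algebra.FiniteType K A] [IsReduced A]
variable {R : Type u} [CommRing R] [Algebra K R]

theorem GeomRed.isIntegral_of_fix_le (hG : GeomRed K A) {σ : Pt K A →* (R →ₐ[K] R)} (hσ : IsRatA σ)
    {U : Subgroup (Pt K A)} (hU : ∀ g ∈ U, IsUnip g) (S : Subalgebra K R) (hS : IsStab σ (S : Set R))
    (hfix : fixA σ U ≤ S) (r : R) : IsIntegral S r := by
  classical
  rcases subsingleton_or_nontrivial R with hR | hR
  · rw [Subsingleton.elim r 0]; exact isIntegral_zero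
  -- the finite-dimensional stable subspace
  have hfin := hσ.isRat.finite_orb (X := {1, r}) ((Set.finite_singleton r).insert 1)
  set W := orb (toRep σ) {1, r} with hWdef
  have h1W : (1 : R) ∈ W := subset_orb _ _ (Set.mem_insert _ _)
  have hrW : r ∈ W := subset_orb _ _ (Set.mem_insert_of_mem _ rfl)
  have hWst : IsStab σ (W : Set R) := fun g w hw => orb_stable (toRep σ) _ g hw
  -- the Rees algebra
  let D := rees W
  let τ := resAct (polyAct σ) D (rees_stab hWst)
  have hτ : IsRatA τ := hσ.polyAct.resAct _ _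
  have hD0 : ∀ q : D, ∃ c : K, (q : R[X]).coeff 0 = algebraMap K R c := by
    intro q
    have h1 := q.2 0
    rw [pow_zero] at h1
    obtain ⟨c, hc⟩ := Submodule.mem_one.1 h1
    exact ⟨c, hc.symm⟩
  let I : Ideal D := Ideal.span {q : D | ∃ s ∈ S, ∃ d > 0, (q : R[X]) = monomial d s}
  let Dp : Ideal D := RingHom.ker ((Polynomial.constantCoeff : R[X] →+* R).comp D.val.toRingHom)
  have hDp : ∀ q : D, q ∈ Dp ↔ (q : R[X]).coeff 0 = 0 := fun q => Iff.rfl
  have hIDp : I ≤ Dp := by
    rw [Ideal.span_le]
    rintro q ⟨s, -, d, hd, hq⟩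
    change q ∈ Dp
    rw [hDp, hq, coeff_monomial, if_neg hd.ne']
  have hIst : IsStab τ (I : Set D) := by
    intro g q hq
    have h1 : I ≤ I.comap (τ g) := by
      conv_lhs => rw [show I = Ideal.span {q : D | ∃ s ∈ S, ∃ d > 0, (q : R[X]) = monomial d s} from rfl]
      rw [Ideal.span_le]
      rintro q ⟨s, hs, d, hd, hq⟩
      refine Ideal.subset_span ⟨σ g s, hS g s hs, d, hd, ?_⟩
      rw [coe_resAct, hq]
      exact Polynomial.map_monomial _
    exact h1 hq
  let J : Ideal D := I.radical
  have hJst : IsStab τ (J : Set D) := by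
    rintro g q ⟨n, hn⟩
    refine ⟨n, ?_⟩
    rw [← map_pow]
    exact hIst g _ hn
  have hJDp : J ≤ Dp := by
    rintro q ⟨n, hn⟩
    rw [hDp]
    have h1 := (hDp _).1 (hIDp hn)
    obtain ⟨c, hc⟩ := hD0 q
    rw [Subalgebra.coe_pow, ← Polynomial.constantCoeff_apply, map_pow, Polynomial.constantCoeff_apply, hc,
      ← map_pow] at h1
    have h2 : c ^ n = 0 := (map_eq_zero _).1 h1
    have h3 : c = 0 := by
      by_contra h0
      exact pow_ne_zero n h0 h2
    rw [hc, h3, map_zero]
  -- the irrelevant ideal is contained in the radical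
  have key : Dp ≤ J := by
    by_contra hcon
    obtain ⟨x, hxD, hxJ, hx⟩ := exists_fixed_mod (ρ := toRep τ) hτ.isRat hU (J.restrictScalars K)
      (fun g q hq => hJst g q hq) (Dp.restrictScalars K) (fun g _ q hq => by
        change τ g q ∈ Dp
        rw [hDp, coe_resAct, polyAct_coeff, (hDp q).1 hq, map_zero]) (fun h => hcon h)
    obtain ⟨m, hm, y, hy, hyJ⟩ := hG.lift_sub hτ J hJst U hx
    obtain ⟨c, hc⟩ := hD0 y
    have hyS : ∀ k, (y : R[X]).coeff k ∈ S := by
      intro k
      refine hfix fun g hg => ?_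
      rw [← polyAct_coeff]
      exact congrArg (fun q : D => (q : R[X]).coeff k) (hy g hg)
    -- `y` is congruent to its constant term
    have h1 : y - algebraMap K D c ∈ I := by
      have h2 : y - algebraMap K D c = ∑ k ∈ ((y : R[X]).support.erase 0).attach,
          (⟨monomial k.1 ((y : R[X]).coeff k.1), monomial_mem_rees (y.2 _)⟩ : D) := by
        apply Subtype.ext
        rw [AddSubgroupClass.coe_sub, AddSubmonoidClass.coe_finsetSum]
        change (y : R[X]) - algebraMap K R[X] c = ∑ k ∈ ((y : R[X]).support.erase 0).attach,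
          monomial k.1 ((y : R[X]).coeff k.1)
        rw [Finset.sum_attach ((y : R[X]).support.erase 0) (fun k => monomial k ((y : R[X]).coeff k)),
          Polynomial.algebraMap_apply, ← hc, sub_eq_iff_eq_add]
        by_cases h0 : 0 ∈ (y : R[X]).support
        · conv_lhs => rw [(y : R[X]).as_sum_support, ← Finset.sum_erase_add _ _ h0]
          rfl
        · rw [Finset.erase_eq_of_notMem h0]
          conv_lhs => rw [(y : R[X]).as_sum_support]
          rw [notMem_support_iff.1 h0, map_zero, add_zero]
      rw [h2]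
      refine Ideal.sum_mem _ fun k _ => Ideal.subset_span ⟨_, hyS k.1, k.1, ?_, rfl⟩
      exact Nat.pos_of_ne_zero (Finset.ne_of_mem_erase k.2)
    have h2 : x ^ m - algebraMap K D c ∈ J := by
      have := J.add_mem hyJ (Ideal.le_radical h1)
      simpa using this
    have h3 : algebraMap K D c ∈ Dp := by
      have h4 : x ^ m ∈ Dp := Ideal.pow_mem_of_mem _ hxD _ hm
      have := Dp.sub_mem h4 (hJDp h2)
      simpa using this
    have h4 : algebraMap K D c = 0 := by
      rw [hDp] at h3
      change (algebraMap K R[X] c).coeff 0 = 0 at h3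
      rw [Polynomial.algebraMap_apply, coeff_C_zero] at h3
      rw [(map_eq_zero _).1 h3, map_zero]
    rw [h4, sub_zero] at h2
    exact hxJ (Ideal.radical_isRadical I ⟨m, h2⟩)
  -- the ideal generated by the elements of degree one
  let E : Ideal D := Ideal.span {q : D | ∃ w ∈ W, (q : R[X]) = monomial 1 w}
  have hmem1 : ∀ w ∈ W, monomial 1 w ∈ D := fun w hw => monomial_mem_rees (by rwa [pow_one])
  have hEfg : E.FG := by
    obtain ⟨s, hs⟩ := (Module.Finite.iff_fg (N := W)).1 hfin
    have hsW : ∀ w ∈ s, w ∈ W := fun w hw => by rw [← hs]; exact Submodule.subset_span hw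
    refine ⟨s.attach.image fun w => (⟨monomial 1 w.1, hmem1 _ (hsW _ w.2)⟩ : D), ?_⟩
    apply le_antisymm
    · rw [Submodule.span_le]
      intro q hq
      rw [Finset.mem_coe, Finset.mem_image] at hq
      obtain ⟨w, -, rfl⟩ := hq
      exact Ideal.subset_span ⟨w.1, hsW _ w.2, rfl⟩
    · change Ideal.span _ ≤ _
      rw [Ideal.span_le]
      rintro q ⟨w, hw, hq⟩
      have h1 : W ≤ Submodule.comap (((Polynomial.monomial 1 : R →ₗ[R] R[X])).restrictScalars K)
          (((Ideal.span ((s.attach.image fun w => (⟨monomial 1 w.1, hmem1 _ (hsW _ w.2)⟩ : D)) : Set D)).restrictScalars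
            K).map D.val.toLinearMap) := by
        conv_lhs => rw [← hs]
        rw [Submodule.span_le]
        intro w hw
        refine ⟨⟨monomial 1 w, hmem1 _ (hsW _ hw)⟩, Ideal.subset_span ?_, rfl⟩
        rw [Finset.mem_coe, Finset.mem_image]
        exact ⟨⟨w, hw⟩, Finset.mem_attach _ _, rfl⟩
      obtain ⟨q', hq', he⟩ := h1 hw
      have : q = q' := Subtype.ext (hq.trans he.symm)
      rw [this]
      exact hq'
  have hEJ : E ≤ J := by
    refine le_trans ?_ key
    rw [Ideal.span_le]
    rintro q ⟨w, -, hq⟩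
    change q ∈ Dp
    rw [hDp, hq, coeff_monomial, if_neg one_ne_zero]
  obtain ⟨N, hN⟩ := Ideal.exists_pow_le_of_le_radical_of_fg hEJ hEfg
  have hEn : ∀ n, ∀ a, ∀ ha : a ∈ W ^ n, (⟨monomial n a, monomial_mem_rees ha⟩ : D) ∈ E ^ n := by
    intro n
    induction n with
    | zero => intro a ha; rw [pow_zero, Ideal.one_eq_top]; trivial
    | succ n ih =>
      intro a ha
      have h1 : W ^ (n + 1) ≤ Submodule.comap (((Polynomial.monomial (n + 1) : R →ₗ[R] R[X])).restrictScalars K)
          (((E ^ (n + 1)).restrictScalars K).map D.val.toLinearMap) := by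
        rw [pow_succ, Submodule.mul_le]
        intro b hb w hw
        refine ⟨⟨monomial n b, monomial_mem_rees hb⟩ * ⟨monomial 1 w, hmem1 w hw⟩, ?_, ?_⟩
        · change _ ∈ E ^ (n + 1)
          rw [pow_succ]
          exact Ideal.mul_mem_mul (ih b hb) (Ideal.subset_span ⟨w, hw, rfl⟩)
        · change monomial n b * monomial 1 w = monomial (n + 1) (b * w)
          rw [monomial_mul_monomial]
      obtain ⟨q', hq', he⟩ := h1 ha
      have : (⟨monomial (n + 1) a, monomial_mem_rees ha⟩ : D) = q' := Subtype.ext he.symm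
      rw [this]
      exact hq'
  -- the finite module
  let M : Submodule S R := Submodule.span S ((W ^ N : Submodule K R) : Set R)
  have hmono : ∀ n, n ≤ N → W ^ n ≤ W ^ N := fun n hn =>
    pow_le_pow_right' (Submodule.one_le.2 h1W) hn
  have hM : ∀ n, ∀ a ∈ W ^ n, a ∈ M := by
    intro n
    induction n using Nat.strong_induction_on with
    | _ n ih =>
      intro a ha
      rcases le_or_gt n N with hn | hn
      · exact Submodule.subset_span (hmono n hn ha)
      · have h1 : (⟨monomial n a, monomial_mem_rees ha⟩ : D) ∈ I := hN (Ideal.pow_le_pow_right hn.le (hEn n a ha))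
        have h2 : ∀ x ∈ I, ∀ q : D, ((q * x : D) : R[X]).coeff n ∈ M := by
          intro x hx
          induction hx using Submodule.span_induction with
          | mem x hx =>
            obtain ⟨s, hs, d, hd, hxs⟩ := hx
            intro q
            rw [MulMemClass.coe_mul, hxs, ← C_mul_X_pow_eq_monomial, ← mul_assoc, coeff_mul_X_pow']
            split_ifs with h
            · have h3 := ih (n - d) (by omega) _ (q.2 (n - d))
              have h4 : (q : R[X]).coeff (n - d) * s = (⟨s, hs⟩ : S) • (q : R[X]).coeff (n - d) := by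
                rw [mul_comm]; rfl
              rw [coeff_mul_C, h4]
              exact M.smul_mem _ h3
            · exact M.zero_mem
          | zero => intro q; rw [MulZeroClass.mul_zero]; exact M.zero_mem
          | add x y _ _ hx hy =>
            intro q
            rw [mul_add]
            change (((q * x : D) : R[X]) + ((q * y : D) : R[X])).coeff n ∈ M
            rw [coeff_add]
            exact M.add_mem (hx q) (hy q)
          | smul b x _ hx =>
            intro q
            rw [smul_eq_mul, ← mul_assoc]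
            exact hx (q * b)
        have h3 := h2 _ h1 1
        rw [_root_.one_mul] at h3
        change (monomial n a).coeff n ∈ M at h3
        rwa [coeff_monomial, if_pos rfl] at h3
  have hMmul : ∀ x y, x ∈ M → y ∈ M → x * y ∈ M := by
    have h1 : M * M ≤ M := by
      rw [Submodule.span_mul_span, Submodule.span_le]
      rintro _ ⟨a, ha, b, hb, rfl⟩
      refine hM (N + N) _ ?_
      rw [pow_add]
      exact Submodule.mul_mem_mul ha hb
    exact fun x y hx hy => h1 (Submodule.mul_mem_mul hx hy)
  have hMfg : M.FG := by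
    obtain ⟨s, hs⟩ : (W ^ N).FG := Submodule.FG.pow ((Module.Finite.iff_fg (N := W)).1 hfin) N
    refine ⟨s, ?_⟩
    change _ = Submodule.span S _
    rw [← hs, Submodule.span_span_of_tower]
  have h1M : (1 : R) ∈ M := hM 0 1 (by rw [pow_zero]; exact Submodule.one_le.1 le_rfl)
  refine IsIntegral.of_mem_of_fg (M.toSubalgebra h1M hMmul) ?_ r ?_
  · rwa [Submodule.toSubalgebra_toSubmodule]
  · exact hM 1 r (by rwa [pow_one])

end

end K497.Rat
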