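import Groth.Agent.AGF.K497.Height
import Groth.Agent.AGF.K497.Int228
import Groth.Agent.Sga3B.RG.DynUnip
import Mathlib.RingTheory.Adjoin.Tower

/-!
# The horospherical contraction

`A` a finitely generated Hopf domain over the algebraically closed field `K`, `lam` a cocharacter, `R` a rational
algebra.  The associated graded algebra of the height filtration embeds into the `Z(λ)`-invariants of
`K[G]^{U(-λ)} ⊗ R^{U(λ)}`, and the latter is integral over it.  If every rational representation has a nonnegative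
weight then `R` is finitely generated as soon as `R^{U(λ)}` is.
-/

set_option autoImplicit false
set_option linter.unusedSectionVars false

universe u w w'

open TensorProduct Groth.Agent.Sga3B.RG K497.Rat
open scoped LaurentPolynomial

namespace K497.Wgt

section Top

variable {K : Type u} [Field K] [Infinite K] {A : Type u} [CommRing A] [HopfAlgebra K A]
variable {R : Type w} [CommRing R] [Algebra K R] {σ : Pt K A →* (R →ₐ[K] R)}
variable {lam : A →ₐc[K] K[T;T⁻¹]} (hσ : IsRatA σ)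

/-- The sum of the `n`-th weight components of the `n`-th coefficients. -/
noncomputable def topL (lam : A →ₐc[K] K[T;T⁻¹]) (hσ : IsRatA σ) : Polynomial R →ₗ[K] R where
  toFun p := p.sum fun n a => (isGm_cop hσ.isRat lam).P n a
  map_add' p q := Polynomial.sum_add_index p q _ (fun _ => map_zero _) (fun _ _ _ => map_add _ _ _)
  map_smul' c p := by
    rw [RingHom.id_apply]
    have h1 : ∀ n, (isGm_cop hσ.isRat lam).P (n : ℤ) (0 : R) = 0 := fun n => map_zero _
    rw [Polynomial.sum_def, Polynomial.sum_def, Finset.smul_sum]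
    refine Finset.sum_subset_zero_on_sdiff (Polynomial.support_smul c p) (fun n hn => ?_) (fun n hn => ?_)
    · rw [Finset.mem_sdiff, Polynomial.notMem_support_iff, Polynomial.coeff_smul] at hn
      rw [← map_smul, hn.2, map_zero]
    · rw [Polynomial.coeff_smul, map_smul]

lemma topL_monomial (n : ℕ) (a : R) :
    topL lam hσ (Polynomial.monomial n a) = (isGm_cop hσ.isRat lam).P n a :=
  Polynomial.sum_monomial_index a (fun (n : ℕ) (a : R) => (isGm_cop hσ.isRat lam).P (n : ℤ) a) (map_zero _)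

lemma topL_apply (p : Polynomial R) :
    topL lam hσ p = ∑ n ∈ p.support, (isGm_cop hσ.isRat lam).P n (p.coeff n) := rfl

/-- The Rees algebra of the height filtration. -/
noncomputable def reesF (lam : A →ₐc[K] K[T;T⁻¹]) (hσ : IsRatA σ) : Subalgebra K (Polynomial R) where
  carrier := {p | ∀ n : ℕ, p.coeff n ∈ Fil lam hσ.isRat n}
  add_mem' ha hb n := by rw [Polynomial.coeff_add]; exact add_mem (ha n) (hb n)
  mul_mem' {a b} ha hb n := by
    rw [Polynomial.coeff_mul]
    refine sum_mem fun i hi => ?_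
    rw [Finset.mem_antidiagonal] at hi
    rw [← hi, Nat.cast_add]
    exact mul_mem_Fil hσ (ha _) (hb _)
  algebraMap_mem' c n := by
    rw [Polynomial.algebraMap_apply, Polynomial.coeff_C]
    split_ifs with h
    · rw [h]; exact algebraMap_mem_Fil hσ c
    · exact zero_mem _

lemma mem_reesF {p : Polynomial R} : p ∈ reesF lam hσ ↔ ∀ n : ℕ, p.coeff n ∈ Fil lam hσ.isRat n := Iff.rfl

lemma monomial_mem_reesF {n : ℕ} {a : R} (h : a ∈ Fil lam hσ.isRat n) : Polynomial.monomial n a ∈ reesF lam hσ := by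
  intro m
  rw [Polynomial.coeff_monomial]
  split_ifs with hm
  · rw [← hm]; exact h
  · exact zero_mem _

lemma topL_mul {p q : Polynomial R} (hp : p ∈ reesF lam hσ) (hq : q ∈ reesF lam hσ) :
    topL lam hσ (p * q) = topL lam hσ p * topL lam hσ q := by
  rw [Polynomial.mul_eq_sum_sum, map_sum, topL_apply hσ p, Finset.sum_mul]
  refine Finset.sum_congr rfl fun i _ => ?_
  rw [Polynomial.sum_def, map_sum, topL_apply hσ q, Finset.mul_sum]
  refine Finset.sum_congr rfl fun j _ => ?_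
  rw [topL_monomial, Nat.cast_add]
  exact P_mul_of_mem_Fil hσ (hp i) (hq j)

lemma topL_algebraMap (c : K) : topL lam hσ (algebraMap K (Polynomial R) c) = algebraMap K R c := by
  rw [Polynomial.algebraMap_apply, ← Polynomial.monomial_zero_left, topL_monomial]
  exact P_algebraMap hσ c

omit [Infinite K] in
lemma polyAct_monomial (g : Pt K A) (n : ℕ) (a : R) :
    polyAct σ g (Polynomial.monomial n a) = Polynomial.monomial n (σ g a) :=
  Polynomial.map_monomial _

lemma polyAct_mem_reesF {p : Polynomial R} (hp : p ∈ reesF lam hσ) (g : Pt K A) : polyAct σ g p ∈ reesF lam hσ := by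
  intro n
  rw [polyAct_coeff]
  exact Fil_stable hσ.isRat (hp n) g

/-- Induction on polynomials for linear statements. -/
lemma topL_polyAct_eq {p : Polynomial R} {g h : Pt K A}
    (H : ∀ n : ℕ, (isGm_cop hσ.isRat lam).P n (σ g (p.coeff n)) = (isGm_cop hσ.isRat lam).P n (σ h (p.coeff n))) :
    topL lam hσ (polyAct σ g p) = topL lam hσ (polyAct σ h p) := by
  conv_lhs => rw [p.as_sum_support]
  conv_rhs => rw [p.as_sum_support]
  rw [map_sum, map_sum, map_sum, map_sum]
  refine Finset.sum_congr rfl fun n _ => ?_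
  rw [polyAct_monomial, polyAct_monomial, topL_monomial, topL_monomial, H]

lemma topL_Zsub {z : Pt K A} (hz : z ∈ Zsub lam) (p : Polynomial R) :
    topL lam hσ (polyAct σ z p) = σ z (topL lam hσ p) := by
  conv_lhs => rw [p.as_sum_support]
  conv_rhs => rw [p.as_sum_support]
  rw [map_sum, map_sum, map_sum, map_sum]
  refine Finset.sum_congr rfl fun n _ => ?_
  rw [polyAct_monomial, topL_monomial, topL_monomial]
  exact P_Zsub hσ.isRat hz n _

lemma topL_Usub_inv {u : Pt K A} (hu : u ∈ Usub (invCoch lam)) {p : Polynomial R} (hp : p ∈ reesF lam hσ) :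
    topL lam hσ (polyAct σ u p) = topL lam hσ p := by
  have h1 := topL_polyAct_eq (p := p) (g := u) (h := 1) hσ (lam := lam) (fun n => by
    rw [act_one]
    exact P_Usub_inv hσ.isRat (fun _ hi => P_eq_zero_of_mem_Fil hσ.isRat (hp n) hi) hu)
  rw [h1, act_one]

lemma topL_mem_fixA {p : Polynomial R} (hp : p ∈ reesF lam hσ) : topL lam hσ p ∈ fixA σ (Usub lam) := by
  rw [topL_apply]
  refine sum_mem fun n _ => fun u hu => ?_
  exact fixed_of_mem_Fil hσ.isRat (hp n) hu

/-- The `n`-th weight component. -/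
lemma P_topL (n : ℕ) (p : Polynomial R) :
    (isGm_cop hσ.isRat lam).P n (topL lam hσ p) = (isGm_cop hσ.isRat lam).P n (p.coeff n) := by
  rw [topL_apply, map_sum]
  simp_rw [IsGm.P_P]
  by_cases hn : n ∈ p.support
  · rw [Finset.sum_eq_single n]
    · rw [if_pos rfl]
    · intro m _ hm
      rw [if_neg (by exact_mod_cast hm.symm)]
    · exact fun h => absurd hn h
  · rw [Polynomial.notMem_support_iff.1 hn, map_zero]
    refine Finset.sum_eq_zero fun m hm => ?_
    rw [if_neg]
    intro h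
    rw [Nat.cast_inj] at h
    exact hn (h ▸ hm)

lemma isPol_topL (p : Polynomial R) : IsPol (fun g : Pt K A => topL lam hσ (polyAct σ g⁻¹ p)) :=
  ((hσ.polyAct p).comp_reg isReg_inv).map (topL lam hσ)

end Top

/-- Artin–Tate. -/
lemma fg_of_integral {K : Type u} [Field K] {Q : Type w} [CommRing Q] [Algebra K Q] {E Q1 : Subalgebra K Q}
    (hle : E ≤ Q1) (hQ1 : Q1.FG) (hint : ∀ r : Q1, IsIntegral (E.comap Q1.val) r) : E.FG := by
  have hQ1' : Algebra.FiniteType K Q1 := (Subalgebra.fg_iff_finiteType _).1 hQ1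
  have h1 : Algebra.FiniteType (E.comap Q1.val) Q1 := Algebra.FiniteType.of_restrictScalars_finiteType K _ Q1
  have h2 : Algebra.IsIntegral (E.comap Q1.val) Q1 := ⟨hint⟩
  have h3 : Module.Finite (E.comap Q1.val) Q1 := Algebra.IsIntegral.finite
  have h4 : (⊤ : Subalgebra K (E.comap Q1.val)).FG :=
    fg_of_fg_of_fg K (E.comap Q1.val) Q1 hQ1'.out h3.fg_top Subtype.val_injective
  have h5 : (E.comap Q1.val).FG := (Subalgebra.fg_iff_finiteType _).2 ⟨h4⟩
  have h6 : (E.comap Q1.val).map Q1.val = E := by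
    apply le_antisymm
    · rintro _ ⟨q, hq, rfl⟩
      exact hq
    · intro q hq
      exact ⟨⟨q, hle hq⟩, hq, rfl⟩
  rw [← h6]
  exact h5.map _

section Q

variable {K : Type u} [Field K] [IsAlgClosed K] {A : Type u} [CommRing A] [HopfAlgebra K A]
variable [Algebra.FiniteType K A] [IsDomain A]
variable {R : Type u} [CommRing R] [Algebra K R]

omit [IsAlgClosed K] [Algebra.FiniteType K A] [IsDomain A] in
lemma isRatA_comp {B : Type u} [CommRing B] [HopfAlgebra K B] {S : Type w} [CommRing S] [Algebra K S]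
    {σ : Pt K A →* (S →ₐ[K] S)} (hσ : IsRatA σ) (φ : A →ₐc[K] B) : IsRatA (σ.comp (Pt.map φ)) := fun r =>
  (hσ r).comp_reg (isReg_map φ)

variable (lam : A →ₐc[K] K[T;T⁻¹]) (σ : Pt K A →* (R →ₐ[K] R))

/-- `K[G]^{U(-λ)} ⊗ R^{U(λ)}`. -/
abbrev Q0 : Type u :=
  (K495.ObsPt.rInv ((Usub (invCoch lam) : Subgroup (Pt K A)) : Set (Pt K A))) ⊗[K] (fixA σ (Usub lam))

/-- Evaluation of the elements of `Q0`. -/
noncomputable abbrev qv (g : Pt K A) : Q0 lam σ →ₐ[K] fixA σ (Usub lam) :=
  evI ((Usub (invCoch lam) : Subgroup (Pt K A)) : Set (Pt K A)) g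

variable {lam σ}

lemma quotMap_mem_Zsub (z : Pt K (A ⧸ vanIdeal ((Zsub lam : Subgroup (Pt K A)) : Set (Pt K A)))) :
    quotMap (vanIdeal ((Zsub lam : Subgroup (Pt K A)) : Set (Pt K A))) z ∈ Zsub lam := by
  have h1 : quotMap (vanIdeal (Zsub lam : Set (Pt K A))) z ∈
      (quotMap (K := K) (vanIdeal (Zsub lam : Set (Pt K A)))).range := ⟨z, rfl⟩
  rwa [range_quotMap_vanIdeal _ (isCl_Zsub lam)] at h1

omit [Algebra.FiniteType K A] [IsDomain A] in
lemma conj_mem_Usub_inv {z n : Pt K A} (hz : z ∈ Zsub lam) (hn : n ∈ Usub (invCoch lam)) :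
    z⁻¹ * n * z ∈ Usub (invCoch lam) := by
  have h1 : z⁻¹ ∈ Psub (invCoch lam) :=
    inv_mem (Zsub_le_Psub _ (mem_Zsub_invCoch.2 hz))
  have := (Subgroup.mem_normalizer_iff.1 (Psub_le_normalizer_Usub (invCoch lam) h1) n).1 hn
  rwa [inv_inv] at this

omit [Algebra.FiniteType K A] [IsDomain A] in
lemma conj_mem_Usub {z n : Pt K A} (hz : z ∈ Zsub lam) (hn : n ∈ Usub lam) : z⁻¹ * n * z ∈ Usub lam := by
  have h1 : z⁻¹ ∈ Psub lam := inv_mem (Zsub_le_Psub _ hz)
  have := (Subgroup.mem_normalizer_iff.1 (Psub_le_normalizer_Usub lam h1) n).1 hn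
  rwa [inv_inv] at this

lemma rInv_stab_right : IsStab ((rTrHom K A).comp (quotMap (vanIdeal ((Zsub lam : Subgroup (Pt K A)) : Set (Pt K A)))))
    ((K495.ObsPt.rInv ((Usub (invCoch lam) : Subgroup (Pt K A)) : Set (Pt K A)) : Subalgebra K A) : Set A) := by
  intro z a ha x n hn
  change (x * n) (rTr _ a) = x (rTr _ a)
  have hz := quotMap_mem_Zsub z
  set y := quotMap (vanIdeal ((Zsub lam : Subgroup (Pt K A)) : Set (Pt K A))) z
  rw [rTr_apply_pt, rTr_apply_pt]
  have h1 : x * n * y = x * y * (y⁻¹ * n * y) := by group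
  rw [h1]
  exact ha _ _ (conj_mem_Usub_inv hz hn)

lemma fixA_stab : IsStab (σ.comp (quotMap (vanIdeal ((Zsub lam : Subgroup (Pt K A)) : Set (Pt K A)))))
    ((fixA σ (Usub lam) : Subalgebra K R) : Set R) := by
  intro z r hr u hu
  have hz := quotMap_mem_Zsub z
  change σ u (σ (quotMap (vanIdeal ((Zsub lam : Subgroup (Pt K A)) : Set (Pt K A))) z) r) =
    σ (quotMap (vanIdeal ((Zsub lam : Subgroup (Pt K A)) : Set (Pt K A))) z) r
  set y := quotMap (vanIdeal ((Zsub lam : Subgroup (Pt K A)) : Set (Pt K A))) z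
  have h1 : u * y = y * (y⁻¹ * u * y) := by group
  rw [← act_mul, h1, act_mul, hr _ (conj_mem_Usub hz hu)]

variable (lam σ)

/-- The action of `Z(λ)`. -/
noncomputable def tAct : Pt K (A ⧸ vanIdeal ((Zsub lam : Subgroup (Pt K A)) : Set (Pt K A))) →*
    (Q0 lam σ →ₐ[K] Q0 lam σ) :=
  tenAct (resAct ((rTrHom K A).comp (quotMap (vanIdeal ((Zsub lam : Subgroup (Pt K A)) : Set (Pt K A))))) _
      rInv_stab_right)
    (resAct (σ.comp (quotMap (vanIdeal ((Zsub lam : Subgroup (Pt K A)) : Set (Pt K A))))) _ fixA_stab)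

variable {lam σ}

lemma isRatA_tAct (hσ : IsRatA σ) : IsRatA (tAct lam σ) :=
  ((isRatA_comp isRatA_rTrHom _).resAct _ _).tenAct ((isRatA_comp hσ _).resAct _ _)

lemma qv_tAct (z : Pt K (A ⧸ vanIdeal ((Zsub lam : Subgroup (Pt K A)) : Set (Pt K A)))) (g : Pt K A)
    (q : Q0 lam σ) :
    (qv lam σ g (tAct lam σ z q) : R) =
      σ (quotMap (vanIdeal ((Zsub lam : Subgroup (Pt K A)) : Set (Pt K A))) z)
        (qv lam σ (g * quotMap (vanIdeal ((Zsub lam : Subgroup (Pt K A)) : Set (Pt K A))) z) q : R) := by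
  induction q using TensorProduct.induction_on with
  | zero => rw [map_zero, map_zero, map_zero, ZeroMemClass.coe_zero, map_zero]
  | tmul a r =>
    rw [tAct, tenAct_tmul, evI_tmul, evI_tmul, SetLike.val_smul, SetLike.val_smul, coe_resAct, coe_resAct, map_smul]
    congr 1
    exact rTr_apply_pt _ g a
  | add x y hx hy =>
    rw [map_add, map_add, map_add, Subalgebra.coe_add, Subalgebra.coe_add, map_add, hx, hy]

variable (lam σ)

/-- The action of the group by left translation. -/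
noncomputable abbrev gAct : Pt K A →* (Q0 lam σ →ₐ[K] Q0 lam σ) :=
  trAct ((Usub (invCoch lam) : Subgroup (Pt K A)) : Set (Pt K A)) (1 : Pt K A →* (fixA σ (Usub lam) →ₐ[K] fixA σ (Usub lam)))

variable {lam σ}

lemma isRatA_gAct : IsRatA (gAct lam σ) := isRatA_trAct _ isRatA_one

lemma qv_gAct (g h : Pt K A) (q : Q0 lam σ) : qv lam σ h (gAct lam σ g q) = qv lam σ (g⁻¹ * h) q :=
  evI_trAct _ _ g h q

lemma qv_ext {q q' : Q0 lam σ} (h : ∀ g, (qv lam σ g q : R) = qv lam σ g q') : q = q' :=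
  evI_ext fun g => Subtype.ext (h g)

lemma qv_mul_right (q : Q0 lam σ) (g : Pt K A) {n : Pt K A} (hn : n ∈ Usub (invCoch lam)) :
    qv lam σ (g * n) q = qv lam σ g q := by
  induction q using TensorProduct.induction_on with
  | zero => rw [map_zero, map_zero]
  | tmul a r =>
    rw [evI_tmul, evI_tmul, a.2 g n hn]
  | add x y hx hy => rw [map_add, map_add, hx, hy]

lemma isPol_qv (q : Q0 lam σ) : IsPol (fun g : Pt K A => (qv lam σ g q : R)) := by
  induction q using TensorProduct.induction_on with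
  | zero => exact (isPol_const (0 : R)).congr fun g => by rw [map_zero, ZeroMemClass.coe_zero]
  | tmul a r => exact (isPol_apply_smul (a : A) (r : R)).congr fun g => by rw [evI_tmul, SetLike.val_smul]
  | add x y hx hy => exact (hx.add hy).congr fun g => by rw [map_add, Subalgebra.coe_add]

/-- Invariants under `Z(λ)`. -/
lemma mem_fixA_tAct {q : Q0 lam σ} : q ∈ fixA (tAct lam σ) ⊤ ↔
    ∀ z ∈ Zsub lam, ∀ g, (qv lam σ g q : R) = σ z (qv lam σ (g * z) q : R) := by
  constructor
  · intro h z hz g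
    have hz' : z ∈ (quotMap (K := K) (vanIdeal ((Zsub lam : Subgroup (Pt K A)) : Set (Pt K A)))).range := by
      rw [range_quotMap_vanIdeal _ (isCl_Zsub lam)]; exact hz
    obtain ⟨z', rfl⟩ := hz'
    rw [← qv_tAct, h z' trivial]
  · intro h z _
    apply qv_ext
    intro g
    rw [qv_tAct]
    exact (h _ (quotMap_mem_Zsub z) g).symm

lemma gAct_stab : IsStab (gAct lam σ) ((fixA (tAct lam σ) ⊤ : Subalgebra K (Q0 lam σ)) : Set (Q0 lam σ)) := by
  intro g q hq
  rw [SetLike.mem_coe, mem_fixA_tAct] at hq ⊢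
  intro z hz h
  rw [qv_gAct, qv_gAct, ← mul_assoc]
  exact hq z hz _

/-- The elements of `Q0` coming from the subalgebra `C` of `R`. -/
noncomputable def EC (lam : A →ₐc[K] K[T;T⁻¹]) (hσ : IsRatA σ) (C : Subalgebra K R) : Subalgebra K (Q0 lam σ) where
  carrier := {q | ∃ p ∈ reesF lam hσ, (∀ n, p.coeff n ∈ C) ∧
    ∀ g, (qv lam σ g q : R) = topL lam hσ (polyAct σ g⁻¹ p)}
  add_mem' := by
    rintro a b ⟨p, hp, hpC, h⟩ ⟨p', hp', hpC', h'⟩
    refine ⟨p + p', add_mem hp hp', fun n => ?_, fun g => ?_⟩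
    · rw [Polynomial.coeff_add]; exact add_mem (hpC n) (hpC' n)
    · rw [map_add, map_add, map_add, Subalgebra.coe_add, h, h']
  mul_mem' := by
    rintro a b ⟨p, hp, hpC, h⟩ ⟨p', hp', hpC', h'⟩
    refine ⟨p * p', mul_mem hp hp', fun n => ?_, fun g => ?_⟩
    · rw [Polynomial.coeff_mul]; exact sum_mem fun i _ => mul_mem (hpC _) (hpC' _)
    · rw [map_mul, map_mul, Subalgebra.coe_mul, h, h',
        topL_mul hσ (polyAct_mem_reesF hσ hp _) (polyAct_mem_reesF hσ hp' _)]
  algebraMap_mem' c := by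
    refine ⟨algebraMap K _ c, Subalgebra.algebraMap_mem _ c, fun n => ?_, fun g => ?_⟩
    · rw [Polynomial.algebraMap_apply, Polynomial.coeff_C]
      split_ifs
      · exact Subalgebra.algebraMap_mem _ c
      · exact zero_mem _
    · rw [AlgHom.commutes, AlgHom.commutes, topL_algebraMap]
      rfl

lemma mem_EC {hσ : IsRatA σ} {C : Subalgebra K R} {q : Q0 lam σ} : q ∈ EC lam hσ C ↔
    ∃ p ∈ reesF lam hσ, (∀ n, p.coeff n ∈ C) ∧ ∀ g, (qv lam σ g q : R) = topL lam hσ (polyAct σ g⁻¹ p) := Iff.rfl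

/-- Every element of the Rees algebra gives an element of `Q0`. -/
lemma exists_qv (hσ : IsRatA σ) {p : Polynomial R} (hp : p ∈ reesF lam hσ) :
    ∃ q : Q0 lam σ, ∀ g, (qv lam σ g q : R) = topL lam hσ (polyAct σ g⁻¹ p) := by
  have h1 : ∀ g : Pt K A, topL lam hσ (polyAct σ g⁻¹ p) ∈ Subalgebra.toSubmodule (fixA σ (Usub lam)) :=
    fun g => topL_mem_fixA hσ (polyAct_mem_reesF hσ hp _)
  obtain ⟨q, hq⟩ := exists_evI (H := ((Usub (invCoch lam) : Subgroup (Pt K A)) : Set (Pt K A)))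
    (R := fixA σ (Usub lam)) (F := fun g => ⟨topL lam hσ (polyAct σ g⁻¹ p), h1 g⟩)
    ((isPol_topL hσ p).codRestrict (Subalgebra.toSubmodule (fixA σ (Usub lam))) h1) (fun g n hn => by
      apply Subtype.ext
      change topL lam hσ (polyAct σ (g * n)⁻¹ p) = topL lam hσ (polyAct σ g⁻¹ p)
      rw [mul_inv_rev, act_mul]
      exact topL_Usub_inv hσ (inv_mem hn) (polyAct_mem_reesF hσ hp _))
  exact ⟨q, fun g => (congrArg Subtype.val (hq g)).symm⟩

lemma EC_le (hσ : IsRatA σ) (C : Subalgebra K R) : EC lam hσ C ≤ fixA (tAct lam σ) ⊤ := by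
  rintro q ⟨p, hp, -, h⟩
  rw [mem_fixA_tAct]
  intro z hz g
  rw [h, h, ← topL_Zsub hσ hz, ← act_mul, mul_inv_rev, mul_inv_cancel_left]

lemma EC_stab (hσ : IsRatA σ) : IsStab (gAct lam σ) ((EC lam hσ ⊤ : Subalgebra K (Q0 lam σ)) : Set (Q0 lam σ)) := by
  rintro g q ⟨p, hp, -, h⟩
  refine ⟨polyAct σ g p, polyAct_mem_reesF hσ hp g, fun _ => Algebra.mem_top, fun x => ?_⟩
  rw [qv_gAct, h, ← act_mul, mul_inv_rev, inv_inv]

/-- The `U(λ)`-fixed elements come from the Rees algebra. -/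
lemma fix_le_EC (hσ : IsRatA σ) (h0 : ∀ v ∈ Fil lam hσ.isRat (-1), v = 0) {q : Q0 lam σ}
    (hq : q ∈ fixA (tAct lam σ) ⊤) (hU : ∀ u ∈ Usub lam, gAct lam σ u q = q) : q ∈ EC lam hσ ⊤ := by
  classical
  rw [mem_fixA_tAct] at hq
  set x : R := (qv lam σ 1 q : R) with hx
  have hxU : ∀ u ∈ Usub lam, σ u x = x := (qv lam σ 1 q).2
  -- the components of `x`
  have hxn : ∀ n : ℤ, (isGm_cop hσ.isRat lam).P n x ∈ Fil lam hσ.isRat n := fun n =>
    mem_Fil_of_fixed hσ.isRat (P_mem_cwt hσ.isRat n x) fun u hu =>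
      P_fixed hσ.isRat (fun t u hu => conj_mem_Usub (cochPt_mem_Zsub lam t) hu) hxU hu n
  have hneg : ∀ n : ℤ, n < 0 → (isGm_cop hσ.isRat lam).P n x = 0 := fun n hn =>
    h0 _ (Fil_mono hσ.isRat (by lia) (hxn n))
  -- the polynomial
  set S := ((isGm_cop hσ.isRat lam).dec x).support with hS
  let N := S.sup Int.natAbs
  let p : Polynomial R := ∑ n ∈ Finset.range (N + 1), Polynomial.monomial n ((isGm_cop hσ.isRat lam).P n x)
  have hp : p ∈ reesF lam hσ := sum_mem fun n _ => monomial_mem_reesF hσ (hxn n)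
  have hsum : ∑ n ∈ Finset.range (N + 1), (isGm_cop hσ.isRat lam).P (n : ℤ) x = x := by
    have h1 := (isGm_cop hσ.isRat lam).sum_P x ((Finset.range (N + 1)).image fun n : ℕ => (n : ℤ)) (fun n hn => ?_)
    · rwa [Finset.sum_image (fun a _ b _ h => by exact_mod_cast h)] at h1
    · rcases lt_or_ge n 0 with h | h
      · exact hneg n h
      · by_contra hne
        apply hn
        have h2 : n ∈ S := Finsupp.mem_support_iff.2 hne
        have h3 := Finset.le_sup (f := Int.natAbs) h2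
        refine Finset.mem_image.2 ⟨n.toNat, Finset.mem_range.2 ?_, Int.toNat_of_nonneg h⟩
        change n.natAbs ≤ N at h3
        lia
  have htop : topL lam hσ p = x := by
    rw [map_sum]
    simp_rw [topL_monomial, IsGm.P_P, if_pos]
    exact hsum
  have hfixp : ∀ u ∈ Usub lam, polyAct σ u p = p := by
    intro u hu
    rw [map_sum]
    refine Finset.sum_congr rfl fun n _ => ?_
    rw [polyAct_monomial]
    congr 1
    exact P_fixed hσ.isRat (fun t u hu => conj_mem_Usub (cochPt_mem_Zsub lam t) hu) hxU hu n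
  refine ⟨p, hp, fun _ => Algebra.mem_top, fun g => ?_⟩
  refine pol_eq_of_cell' (lam := lam) (F := fun g => (qv lam σ g q : R))
    (F' := fun g => topL lam hσ (polyAct σ g⁻¹ p)) (isPol_qv q) (isPol_topL hσ p) (fun u hu z hz u' hu' => ?_) g
  have h1 : (qv lam σ (u * z * u') q : R) = σ z⁻¹ x := by
    rw [qv_mul_right q _ hu']
    have h2 : qv lam σ (u * z) q = qv lam σ z q := by
      conv_rhs => rw [← hU u⁻¹ (inv_mem hu)]
      rw [qv_gAct, inv_inv]
    rw [h2]
    have h3 := hq z hz 1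
    rw [one_mul] at h3
    rw [hx, h3, act_inv]
  have h2 : polyAct σ (u * z * u')⁻¹ p = polyAct σ u'⁻¹ (polyAct σ z⁻¹ p) := by
    rw [mul_inv_rev, mul_inv_rev, act_mul, act_mul, hfixp _ (inv_mem hu)]
  change (qv lam σ (u * z * u') q : R) = topL lam hσ (polyAct σ (u * z * u')⁻¹ p)
  rw [h1, h2, topL_Usub_inv hσ (inv_mem hu') (polyAct_mem_reesF hσ hp _), topL_Zsub hσ (inv_mem hz), htop]

/-- `Q0` is finitely generated. -/
lemma finiteType_Q0 (hN : (K495.ObsPt.rInv ((Usub (invCoch lam) : Subgroup (Pt K A)) : Set (Pt K A)) :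
      Subalgebra K A).FG) (hR : (fixA σ (Usub lam)).FG) : Algebra.FiniteType K (Q0 lam σ) := by
  have h1 : Algebra.FiniteType K (K495.ObsPt.rInv ((Usub (invCoch lam) : Subgroup (Pt K A)) : Set (Pt K A)) :
      Subalgebra K A) := (Subalgebra.fg_iff_finiteType _).1 hN
  have h2 : Algebra.FiniteType K (fixA σ (Usub lam)) := (Subalgebra.fg_iff_finiteType _).1 hR
  have h3 : Algebra.FiniteType (K495.ObsPt.rInv ((Usub (invCoch lam) : Subgroup (Pt K A)) : Set (Pt K A)) :
      Subalgebra K A) (Q0 lam σ) := inferInstance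
  exact Algebra.FiniteType.trans h1 h3

/-- Finite generation of subalgebras containing the fixed elements of a unipotent group. -/
lemma fg_of_stab (hG : GeomRed K A) {Q : Type u} [CommRing Q] [Algebra K Q] {κ : Pt K A →* (Q →ₐ[K] Q)}
    (hκ : IsRatA κ) {U : Subgroup (Pt K A)} (hU : ∀ g ∈ U, IsUnip g) {E Q1 : Subalgebra K Q} (hle : E ≤ Q1)
    (hQ1 : Q1.FG) (hQ1s : IsStab κ (Q1 : Set Q)) (hEs : IsStab κ (E : Set Q))
    (hfix : ∀ q ∈ Q1, (∀ u ∈ U, κ u q = q) → q ∈ E) : E.FG := by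
  have hκ' : IsRatA (resAct κ Q1 hQ1s) := hκ.resAct _ _
  refine fg_of_integral hle hQ1 (hG.isIntegral_of_fix_le hκ' hU (E.comap Q1.val) ?_ ?_)
  · exact fun g q hq => hEs g q hq
  · intro q hq
    exact hfix q q.2 fun u hu => congrArg Subtype.val (hq u hu)

/-- The image of the Rees algebra is finitely generated. -/
theorem fg_EC (hG : GeomRed K A)
    (hT : InvFG K (A ⧸ vanIdeal ((Zsub lam : Subgroup (Pt K A)) : Set (Pt K A))))
    (hN : (K495.ObsPt.rInv ((Usub (invCoch lam) : Subgroup (Pt K A)) : Set (Pt K A)) : Subalgebra K A).FG)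
    (hσ : IsRatA σ) (h0 : ∀ v ∈ Fil lam hσ.isRat (-1), v = 0) (hR : (fixA σ (Usub lam)).FG) :
    (EC lam hσ ⊤).FG := by
  have hQ := finiteType_Q0 hN hR
  have hQ1 : (fixA (tAct lam σ) ⊤).FG := hT _ (tAct lam σ) (isRatA_tAct hσ)
  exact fg_of_stab hG isRatA_gAct (U := Usub lam) (fun g hg => isUnip_of_mem_Usub hg) (EC_le hσ ⊤) hQ1 gAct_stab
    (EC_stab hσ) (fun q hq hU => fix_le_EC hσ h0 hq hU)

/-- **Main theorem**: if `R^{U(λ)}` is finitely generated then so is `R`. -/
theorem finiteType_of_fg_fixA (hG : GeomRed K A)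
    (hT : InvFG K (A ⧸ vanIdeal ((Zsub lam : Subgroup (Pt K A)) : Set (Pt K A))))
    (hN : (K495.ObsPt.rInv ((Usub (invCoch lam) : Subgroup (Pt K A)) : Set (Pt K A)) : Subalgebra K A).FG)
    (hσ : IsRatA σ) (h0 : ∀ v ∈ Fil lam hσ.isRat (-1), v = 0) (hR : (fixA σ (Usub lam)).FG) :
    Algebra.FiniteType K R := by
  classical
  obtain ⟨s, hs⟩ := fg_EC hG hT hN hσ h0 hR
  have hmem : ∀ q ∈ s, ∃ p ∈ reesF lam hσ, ∀ g, (qv lam σ g q : R) = topL lam hσ (polyAct σ g⁻¹ p) := by
    intro q hq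
    obtain ⟨p, hp, -, h⟩ : q ∈ EC lam hσ ⊤ := by
      rw [← hs]
      exact Algebra.subset_adjoin hq
    exact ⟨p, hp, h⟩
  choose! p hp hpq using hmem
  let X : Finset R := s.biUnion fun q => (p q).support.image fun n => (p q).coeff n
  let C : Subalgebra K R := Algebra.adjoin K (X : Set R)
  have hC : ∀ q ∈ s, ∀ n, (p q).coeff n ∈ C := by
    intro q hq n
    by_cases hn : n ∈ (p q).support
    · exact Algebra.subset_adjoin (Finset.mem_coe.2 (Finset.mem_biUnion.2 ⟨q, hq, Finset.mem_image.2 ⟨n, hn, rfl⟩⟩))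
    · rw [Polynomial.notMem_support_iff.1 hn]; exact zero_mem _
  have hEC : EC lam hσ ⊤ ≤ EC lam hσ C := by
    rw [← hs, Algebra.adjoin_le_iff]
    intro q hq
    exact ⟨p q, hp q hq, hC q hq, hpq q hq⟩
  have key : ∀ n : ℕ, ∀ v ∈ Fil lam hσ.isRat ((n : ℤ) - 1), v ∈ C := by
    intro n
    induction n with
    | zero =>
      intro v hv
      rw [h0 v (by simpa using hv)]
      exact zero_mem _
    | succ n ih =>
      intro v hv
      have hv' : v ∈ Fil lam hσ.isRat n := by simpa using hv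
      obtain ⟨q, hq⟩ := exists_qv hσ (monomial_mem_reesF hσ hv')
      obtain ⟨c, hc, hcC, hqc⟩ := hEC ⟨_, monomial_mem_reesF hσ hv', fun _ => Algebra.mem_top, hq⟩
      have h1 : v - c.coeff n ∈ Fil lam hσ.isRat ((n : ℤ) - 1) := by
        intro g m hm
        rcases eq_or_lt_of_le (show (n : ℤ) ≤ m by lia) with h | h
        · subst h
          rw [map_sub, map_sub, sub_eq_zero]
          have h2 := hq g⁻¹
          rw [hqc, inv_inv, polyAct_monomial, topL_monomial] at h2
          have h3 := congrArg ((isGm_cop hσ.isRat lam).P n) h2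
          rw [P_topL, polyAct_coeff, IsGm.P_P, if_pos rfl] at h3
          exact h3.symm
        · exact (sub_mem hv' (hc n)) g m h
      have h2 := add_mem (ih _ h1) (hcC n)
      rwa [sub_add_cancel] at h2
  have htop : C = ⊤ := by
    rw [eq_top_iff]
    intro v _
    obtain ⟨n, hn⟩ := exists_mem_Fil (lam := lam) hσ.isRat v
    exact key (n + 1) v (by simpa using hn)
  exact ⟨X, htop⟩

end Q

end K497.Wgt
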