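import Mathlib.RingTheory.Ideal.Height
import Mathlib.RingTheory.Ideal.KrullsHeightTheorem
import Mathlib.RingTheory.Ideal.MinimalPrime.Noetherian
import Mathlib.RingTheory.Spectrum.Prime.Topology
import Mathlib.Algebra.Ring.Subring.Basic

/-!
# Primes outside an open image of a ring of invariants have height at least two

Let `α β : A → B` be two ring homomorphisms and `R` their equaliser.  If `R` is Noetherian and the image of
`Spec A → Spec R` is open, every prime of `R` outside the image has height at least two.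
-/

set_option autoImplicit false

universe u v

namespace K497.HtTwo

/-- A prime of height at most one in a Noetherian ring is minimal over a principal ideal. -/
theorem exists_mem_minimalPrimes_span {R : Type u} [CommRing R] [IsNoetherianRing R] (q : Ideal R) [q.IsPrime]
    (h : q.height ≤ 1) : ∃ a ∈ q, q ∈ (Ideal.span {a}).minimalPrimes := by
  obtain ⟨s, hs, hcard⟩ := Ideal.exists_finset_card_eq_height_of_isNoetherianRing q
  rw [← hcard] at h
  have h' : s.card ≤ 1 := by exact_mod_cast h
  rw [Finset.card_le_one_iff_subset_singleton] at h'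
  obtain ⟨a, ha⟩ := h'
  rcases Finset.subset_singleton_iff.1 ha with rfl | rfl
  · refine ⟨0, zero_mem _, ?_⟩
    simpa using hs
  · refine ⟨a, hs.1.2 (Ideal.subset_span (by simp)), ?_⟩
    simpa using hs

/-- Choice of an element outside a prime and inside finitely many primes not contained in it. -/
theorem exists_notMem_forall_mem {R : Type u} [CommRing R] (q : Ideal R) [q.IsPrime] (F : Set (Ideal R)) (hF : F.Finite)
    (h : ∀ q' ∈ F, ¬ q' ≤ q) : ∃ s : R, s ∉ q ∧ ∀ q' ∈ F, s ∈ q' := by
  classical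
  by_contra hcon
  push Not at hcon
  have h1 : hF.toFinset.inf (id : Ideal R → Ideal R) ≤ q := by
    intro s hs
    by_contra hsq
    obtain ⟨q', hq', hsq'⟩ := hcon s hsq
    exact hsq' (Finset.inf_le (f := (id : Ideal R → Ideal R)) (hF.mem_toFinset.2 hq') hs)
  rw [Ideal.IsPrime.inf_le' ‹_›] at h1
  obtain ⟨q', hq', hle⟩ := h1
  exact h q' (hF.mem_toFinset.1 hq') hle

theorem two_le_height {A : Type u} {B : Type v} [CommRing A] [CommRing B] (α β : A →+* B)
    [IsNoetherianRing (RingHom.eqLocus α β)]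
    (hopen : IsOpen (Set.range (PrimeSpectrum.comap (RingHom.eqLocus α β).subtype)))
    (p : PrimeSpectrum (RingHom.eqLocus α β))
    (hp : p ∉ Set.range (PrimeSpectrum.comap (RingHom.eqLocus α β).subtype)) :
    (2 : ℕ∞) ≤ p.asIdeal.height := by
  classical
  by_contra hlt
  have hle : p.asIdeal.height ≤ 1 := by
    have h1 : p.asIdeal.height < 1 + 1 := by
      rw [one_add_one_eq_two]; exact not_le.1 hlt
    exact Order.lt_add_one_iff_of_not_isMax (by simp) |>.1 h1
  obtain ⟨I, hI⟩ := (PrimeSpectrum.isClosed_iff_zeroLocus_ideal _).1 hopen.isClosed_compl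
  have hpI : I ≤ p.asIdeal := by
    have : p ∈ PrimeSpectrum.zeroLocus (I : Set (RingHom.eqLocus α β)) := hI ▸ hp
    exact this
  obtain ⟨q, hqI, hqp⟩ := Ideal.exists_minimalPrimes_le hpI
  have hqprime : q.IsPrime := hqI.1.1
  have hq1 : q.height ≤ 1 := (Ideal.height_mono hqp).trans hle
  obtain ⟨a, haq, hqa⟩ := exists_mem_minimalPrimes_span q hq1
  obtain ⟨s, hsq, hs⟩ := exists_notMem_forall_mem q
    ((I.minimalPrimes ∪ (Ideal.span {a}).minimalPrimes) \ {q})
    (((Ideal.finite_minimalPrimes_of_isNoetherianRing _ I).union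
      (Ideal.finite_minimalPrimes_of_isNoetherianRing _ (Ideal.span {a}))).sdiff)
    (by
      rintro q' ⟨hq' | hq', hne⟩ hle'
      · exact hne (le_antisymm hle' (hqI.2 hq'.1 hle'))
      · exact hne (le_antisymm hle' (hqa.2 hq'.1 hle')))
  -- `s` lies in every prime of `A` containing `a`
  have key : ∀ P : Ideal A, P.IsPrime → (a : A) ∈ P → (s : A) ∈ P := by
    intro P hP haP
    by_contra hsP
    let P' : PrimeSpectrum (RingHom.eqLocus α β) := PrimeSpectrum.comap (RingHom.eqLocus α β).subtype ⟨P, hP⟩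
    have haP' : Ideal.span {a} ≤ P'.asIdeal := by
      rw [Ideal.span_singleton_le_iff_mem]; exact haP
    have hsP' : s ∉ P'.asIdeal := hsP
    obtain ⟨q1, hq1a, hq1P⟩ := Ideal.exists_minimalPrimes_le haP'
    have hq1q : q1 = q := by
      by_contra hne
      exact hsP' (hq1P (hs q1 ⟨Or.inr hq1a, hne⟩))
    subst hq1q
    have h1 : P' ∈ PrimeSpectrum.zeroLocus (I : Set (RingHom.eqLocus α β)) := fun x hx => hq1P (hqI.1.2 hx)
    rw [← hI] at h1
    exact h1 ⟨⟨P, hP⟩, rfl⟩
  have hrad : (s : A) ∈ (Ideal.span {(a : A)}).radical := by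
    rw [Ideal.radical_eq_sInf, Submodule.mem_sInf]
    rintro P ⟨hPa, hP⟩
    exact key P hP (hPa (Ideal.subset_span rfl))
  obtain ⟨n, hn⟩ := hrad
  obtain ⟨c, hc⟩ := Ideal.mem_span_singleton'.1 hn
  have hsα : α (s : A) = β (s : A) := s.2
  have haα : α (a : A) = β (a : A) := a.2
  have h1 : α c * α (a : A) = α (s : A) ^ n := by rw [← map_mul, hc, map_pow]
  have h2 : β c * α (a : A) = α (s : A) ^ n := by rw [haα, ← map_mul, hc, map_pow, hsα]
  have h3 : α ((s : A) ^ n * c) = β ((s : A) ^ n * c) := by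
    rw [map_mul, map_mul, map_pow, map_pow, ← hsα]
    calc α (s : A) ^ n * α c = (β c * α (a : A)) * α c := by rw [h2]
      _ = (α c * α (a : A)) * β c := by ring
      _ = α (s : A) ^ n * β c := by rw [h1]
  have h4 : s ^ (2 * n) = a * ⟨(s : A) ^ n * c, h3⟩ := by
    apply Subtype.ext
    push_cast
    calc (s : A) ^ (2 * n) = (s : A) ^ n * (s : A) ^ n := by ring
      _ = (s : A) ^ n * (c * a) := by rw [hc]
      _ = (a : A) * ((s : A) ^ n * c) := by ring
  have h5 : s ^ (2 * n) ∈ q := by
    rw [h4]; exact Ideal.mul_mem_right _ _ haq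
  exact hsq (hqprime.mem_of_pow_mem _ h5)

end K497.HtTwo
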