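import Groth.Agent.AGF.K497.RedCase
import Groth.Agent.AGF.K495.OpenSub
import Groth.Agent.AGF.K496.URDict

/-!
# The identity component of a reductive group
-/

set_option autoImplicit false
set_option linter.unusedSectionVars false

universe u

open CategoryTheory MonoidalCategory CartesianMonoidalCategory MonObj GrpObj AlgebraicGeometry

namespace K497.IdRed

open Groth.Agent.Books.AffBridge Groth.Agent.Books.AffBridge2
open Groth.Agent.Sga3B.RG Groth.Agent.Sga3B.RG.BrPts K495.ObsPt K495.Bridge K495.ObsSep

variable {k : Type u} [Field k] [IsAlgClosed k] {A : Type u} [CommRing A] [HopfAlgebra k A]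
  [Algebra.FiniteType k A] [_root_.IsReduced A]
  {G : Over (Spec (CommRingCat.of k))} [GrpObj G] (e : G ≅ SpecOver k A) [IsMonHom e.hom]

/-- A closed connected subgroup with closed complement is the identity component. -/
theorem idComp_eq {N : Subgroup (Pt k A)} (hcl : IsCl (N : Set (Pt k A))) (hconn : IsConn (N : Set (Pt k A)))
    (hc : IsCl ((N : Set (Pt k A))ᶜ)) : idComp (⊤ : Subgroup (Pt k A)) = N := by
  apply le_antisymm _ (le_idComp hconn le_top)
  have h1 : N.index ≠ 0 := K495.OpenSub.index_ne_zero hc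
  have h2 : (idComp (⊤ : Subgroup (Pt k A)) ⊓ N) = idComp ⊤ := by
    refine (isConn_idComp ⊤).eq_of_finiteIndex ((isCl_idComp _).inter hcl) inf_le_left ?_
    rw [Subgroup.inf_relIndex_left]
    exact fun h => h1 (Subgroup.index_eq_zero_of_relIndex_eq_zero h)
  exact inf_eq_left.1 h2

include e in
/-- The identity component of a reductive group is reductive, on points. -/
theorem isRedPt_idComp (hG : VecGrp.IsReductiveGrp k G) :
    IsRedPt k (A ⧸ vanIdeal ((idComp (⊤ : Subgroup (Pt k A)) : Subgroup (Pt k A)) : Set (Pt k A))) := by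
  obtain ⟨hGaff, hGsm, G₀, _, j, hj, hjo, hred⟩ := hG
  have hjc : IsClosedImmersion j.left := K495.OpenSub.isClosedImmersion_of_open j
  have hsm : Smooth G₀.hom := hred.2.1
  have hcn : ConnectedSpace G₀.left := hred.2.2.1
  have hcl : IsClosedImmersion (j ≫ e.hom).left := by
    have : IsIso e.hom.left := (Over.forget _).map_isIso e.hom
    rw [Over.comp_left]; infer_instance
  have h1 : psub e j = ptsSub (j ≫ e.hom) := K496.URDict.psub_eq_ptsSub e j
  have h2 := K495.OpenSub.isCl_compl_psub e j
  have h3 : idComp (⊤ : Subgroup (Pt k A)) = psub e j := idComp_eq (isCl_psub e j)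
    (by rw [h1]; exact isConn_ptsSub (j ≫ e.hom)) h2
  rw [h3, h1]
  obtain ⟨-, hJ, e', he', -⟩ := exists_iso_vanIdeal (j ≫ e.hom)
  exact (BrRed2.isReductiveOver_iff.1 (BrRed2.isReductiveOver_of_iso e' hred)).2

end K497.IdRed
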