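import Groth.Agent.AGF.K497.Height
import Groth.Agent.AGF.K493.Perf
import Groth.Agent.Sga3B.RG.ConjDetect

/-!
# Representations of semisimple groups have nonnegative weights

Every nonzero rational representation of a semisimple group has a weight `≥ 0` for any cocharacter, because the
determinant of a representation is trivial.
-/

set_option autoImplicit false

universe u w w'

open TensorProduct Groth.Agent.Sga3B.RG K497.Rat
open scoped LaurentPolynomial

namespace K497.Wgt

section

variable {K : Type u} [Field K] [IsAlgClosed K] {A : Type u} [CommRing A] [HopfAlgebra K A]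
variable [Algebra.FiniteType K A] [IsDomain A]

/-- Determinants of representations of semisimple groups are trivial. -/
theorem det_eq_one {V : Type w} [AddCommGroup V] [Module K V] [FiniteDimensional K V]
    (hss : BcPt.IsSsPt K A) {ρ : Representation K (Pt K A) V} (hρ : IsAlg ρ) (g : Pt K A) :
    LinearMap.det (ρ g) = 1 := by
  let f : Pt K A →* K := (LinearMap.det : (V →ₗ[K] V) →* K).comp ρ
  let N : Subgroup (Pt K A) := f.ker
  have hN : N = ⊤ := by
    refine K493.Perf.eq_top_of_isSsPt hss (MonoidHom.normal_ker f) ?_ ?_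
    · have h1 : IsFun (fun g : Pt K A => LinearMap.det (ρ g)) := by
        have := ConjDetect.isFun_det hρ (1 : Module.End K V) 0
        simpa using this
      exact h1.isCl_eq (isFun_const 1)
    · intro g h
      rw [MonoidHom.mem_ker, map_mul, map_mul, map_mul]
      have h1 : f g * f g⁻¹ = 1 := by rw [← map_mul, mul_inv_cancel, map_one]
      have h2 : f h * f h⁻¹ = 1 := by rw [← map_mul, mul_inv_cancel, map_one]
      calc f g * f h * f g⁻¹ * f h⁻¹ = (f g * f g⁻¹) * (f h * f h⁻¹) := by ring
        _ = 1 := by rw [h1, h2, one_mul]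
  have : g ∈ N := by rw [hN]; trivial
  exact this

/-- A nonzero finite-dimensional representation of a semisimple group has a nonnegative weight. -/
theorem subsingleton_of_neg {V : Type w} [AddCommGroup V] [Module K V] [FiniteDimensional K V]
    (hss : BcPt.IsSsPt K A) {ρ : Representation K (Pt K A) V} (hρ : IsRat ρ) {lam : A →ₐc[K] K[T;T⁻¹]}
    (h : ∀ n : ℤ, 0 ≤ n → (isGm_cop hρ lam).P n = 0) : Subsingleton V := by
  classical
  by_contra hns
  rw [not_subsingleton_iff_nontrivial] at hns
  let b := Module.finBasis K V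
  have hdim : Nonempty (Fin (Module.finrank K V)) := by
    have := Module.finrank_pos (R := K) (M := V)
    exact ⟨⟨0, this⟩⟩
  -- a finite set of weights
  let S : Finset ℤ := Finset.univ.biUnion fun i => ((isGm_cop hρ lam).dec (b i)).support
  have hS : ∀ n ∉ S, (isGm_cop hρ lam).P n = 0 := by
    intro n hn
    refine b.ext fun i => ?_
    rw [LinearMap.zero_apply]
    refine Finsupp.notMem_support_iff.1 fun h => hn ?_
    exact Finset.mem_biUnion.2 ⟨i, Finset.mem_univ _, h⟩
  let Mt : ℤ → Matrix (Fin (Module.finrank K V)) (Fin (Module.finrank K V)) K := fun n =>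
    LinearMap.toMatrix b b ((isGm_cop hρ lam).P n)
  let N : Matrix (Fin (Module.finrank K V)) (Fin (Module.finrank K V)) (Polynomial K) :=
    ∑ n ∈ S, (Polynomial.X ^ (-n).toNat : Polynomial K) • (Mt n).map Polynomial.C
  have hev : ∀ c : K, (Polynomial.evalRingHom c).mapMatrix N = ∑ n ∈ S, c ^ (-n).toNat • Mt n := by
    intro c
    rw [map_sum]
    refine Finset.sum_congr rfl fun n _ => ?_
    ext i j
    rw [RingHom.mapMatrix_apply, Matrix.map_apply, Matrix.smul_apply, Matrix.smul_apply, Matrix.map_apply,
      smul_eq_mul, smul_eq_mul, map_mul, map_pow, Polynomial.coe_evalRingHom, Polynomial.eval_X, Polynomial.eval_C]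
  have h1 : ∀ t : Kˣ, Polynomial.eval (t : K) N.det = 1 := by
    intro t
    have h2 : Polynomial.eval (t : K) N.det = ((Polynomial.evalRingHom (t : K)).mapMatrix N).det :=
      RingHom.map_det (Polynomial.evalRingHom (t : K)) N
    rw [h2, hev]
    have h3 : LinearMap.toMatrix b b (ρ (cochPt lam t⁻¹)) = ∑ n ∈ S, (t : K) ^ (-n).toNat • Mt n := by
      have h4 : ρ (cochPt lam t⁻¹) = ∑ n ∈ S, (t : K) ^ (-n).toNat • (isGm_cop hρ lam).P n := by
        refine LinearMap.ext fun v => ?_
        have h5 := (isGm_cop hρ lam).tau_eq v S (fun n hn => by rw [hS n hn]; rfl) t⁻¹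
        rw [MonoidHom.comp_apply] at h5
        rw [h5, LinearMap.sum_apply]
        refine Finset.sum_congr rfl fun n _ => ?_
        rw [LinearMap.smul_apply]
        rcases lt_or_ge n 0 with hn | hn
        · congr 1
          rw [inv_zpow', ← Units.val_pow_eq_pow_val, ← zpow_natCast, Int.toNat_of_nonneg (by lia)]
        · rw [h n hn, LinearMap.zero_apply, smul_zero, smul_zero]
      rw [h4, map_sum]
      exact Finset.sum_congr rfl fun n _ => map_smul _ _ _
    rw [← h3, LinearMap.det_toMatrix, det_eq_one hss hρ.isAlg]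
  have h2 : N.det = 1 := by
    have hinf : Set.Infinite ({0}ᶜ : Set K) := (Set.finite_singleton 0).infinite_compl
    apply Polynomial.eq_of_infinite_eval_eq
    refine hinf.mono fun x hx => ?_
    lift x to Kˣ using (IsUnit.mk0 x hx) with t
    change Polynomial.eval (t : K) N.det = Polynomial.eval (t : K) 1
    rw [h1, Polynomial.eval_one]
  have h3 : Polynomial.eval (0 : K) N.det = ((Polynomial.evalRingHom (0 : K)).mapMatrix N).det :=
    RingHom.map_det (Polynomial.evalRingHom (0 : K)) N
  rw [h2, Polynomial.eval_one, hev] at h3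
  have h4 : ∑ n ∈ S, (0 : K) ^ (-n).toNat • Mt n = 0 := by
    refine Finset.sum_eq_zero fun n _ => ?_
    rcases lt_or_ge n 0 with hn | hn
    · rw [zero_pow (by lia), zero_smul]
    · have : Mt n = 0 := by
        change LinearMap.toMatrix b b ((isGm_cop hρ lam).P n) = 0
        rw [h n hn, map_zero]
      rw [this, smul_zero]
  rw [h4, Matrix.det_zero] at h3
  exact one_ne_zero h3

/-- **The negative part of the height filtration of a rational representation of a semisimple group vanishes.** -/
theorem Fil_neg {M : Type w} [AddCommGroup M] [Module K M] (hss : BcPt.IsSsPt K A)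
    {ρ : Representation K (Pt K A) M} (hρ : IsRat ρ) {lam : A →ₐc[K] K[T;T⁻¹]} (v : M)
    (hv : v ∈ Fil lam hρ (-1)) : v = 0 := by
  have hfin := hρ.finite_orb (Set.finite_singleton v)
  set W := orb ρ {v} with hW
  have hWF : W ≤ Fil lam hρ (-1) := orb_le ρ (Set.singleton_subset_iff.2 hv) fun g x hx => Fil_stable hρ hx g
  have hr : IsRat (ρ.subrepresentation W (orb_stable ρ _)) := hρ.subrepresentation _ _
  have hs := subsingleton_of_neg hss hr (lam := lam) (fun n hn => by
    refine LinearMap.ext fun w => Subtype.ext ?_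
    have h1 := (isGm_cop hr lam).map_P (isGm_cop hρ lam) W.subtype (fun t m => rfl) n w
    refine h1.trans ?_
    exact P_eq_zero_of_mem_Fil hρ (hWF w.2) (by lia))
  exact congrArg Subtype.val (Subsingleton.elim (⟨v, subset_orb ρ _ rfl⟩ : W) 0)

end

end K497.Wgt
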