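import Mathlib.RingTheory.Spectrum.Prime.Chevalley
import Mathlib.RingTheory.FinitePresentation
import Mathlib.Topology.JacobsonSpace
import Mathlib.RingTheory.Spectrum.Prime.Noetherian
import Groth.Agent.S2398

/-!
# Images of dominant morphisms and homogeneity
-/

set_option autoImplicit false

universe u v

open Topology

namespace K497.OpenRange

/-- An injective ring homomorphism of finite presentation with Noetherian nontrivial source has an image with nonempty
interior on spectra. -/
theorem interior_range_nonempty {R : Type u} {A : Type v} [CommRing R] [CommRing A] [IsNoetherianRing R] [Nontrivial R]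
    (f : R →+* A) (hf : Function.Injective f) (hfp : f.FinitePresentation) :
    (interior (Set.range (PrimeSpectrum.comap f))).Nonempty := by
  obtain ⟨q, hq⟩ : Nonempty (minimalPrimes R) := Ideal.nonempty_minimalPrimes bot_ne_top
  have hqp : q.IsPrime := hq.1.1
  obtain ⟨P, hP, hPq⟩ := Ideal.exists_comap_eq_of_mem_minimalPrimes_of_injective hf q hq
  have hx : (⟨q, hqp⟩ : PrimeSpectrum R) ∈ Set.range (PrimeSpectrum.comap f) :=
    ⟨⟨P, hP⟩, PrimeSpectrum.ext hPq⟩
  refine ⟨⟨q, hqp⟩, mem_interior_iff_mem_nhds.2 ?_⟩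
  rw [Groth.Agent.S2398.result _ (PrimeSpectrum.isConstructible_range_comap hfp)]
  intro Y hY hYirr hxY
  -- `⟨q, _⟩` is the generic point of `Y`
  obtain ⟨y, hy⟩ := QuasiSober.sober hYirr hY
  have hyx : y ⤳ (⟨q, hqp⟩ : PrimeSpectrum R) := by
    rw [specializes_iff_mem_closure, hy.def]
    exact hxY
  have hyx' : y = ⟨q, hqp⟩ := by
    have h1 : y.asIdeal ≤ q := (PrimeSpectrum.le_iff_specializes _ _).2 hyx
    exact PrimeSpectrum.ext (le_antisymm h1 (hq.2 ⟨y.2, bot_le⟩ h1))
  subst hyx'
  rw [dense_iff_closure_eq, Set.eq_univ_iff_forall]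
  intro z
  rw [closure_subtype]
  have hz : (z : PrimeSpectrum R) ∈ closure {(⟨q, hqp⟩ : PrimeSpectrum R)} := by
    rw [hy.def]; exact z.2
  refine closure_mono ?_ hz
  rw [Set.singleton_subset_iff]
  exact ⟨⟨_, hxY⟩, hx, rfl⟩

/-- The range of a map which is equivariant for enough self-maps of the source is open as soon as it has an interior
point. -/
theorem isOpen_range {X : Type u} {Y : Type v} [TopologicalSpace X] [TopologicalSpace Y] [JacobsonSpace X]
    (φ : X → Y) (hφ : Continuous φ) (hne : (interior (Set.range φ)).Nonempty)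
    (htr : ∀ x y : X, IsClosed {x} → IsClosed {y} → ∃ (τ : X → X) (l : Y → Y), IsOpenMap l ∧ τ x = y ∧
      ∀ z, φ (τ z) = l (φ z)) : IsOpen (Set.range φ) := by
  have hU : IsOpen (φ ⁻¹' interior (Set.range φ)) := isOpen_interior.preimage hφ
  have hall : φ ⁻¹' interior (Set.range φ) = Set.univ := by
    by_contra hcon
    have hcne : (φ ⁻¹' interior (Set.range φ))ᶜ.Nonempty := by
      rw [Set.nonempty_compl]; exact hcon
    obtain ⟨y, hy, hyc⟩ := nonempty_inter_closedPoints hcne hU.isClosed_compl.isLocallyClosed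
    obtain ⟨z, hz⟩ := hne
    obtain ⟨x', rfl⟩ := interior_subset hz
    obtain ⟨x, hx, hxc⟩ := nonempty_inter_closedPoints ⟨x', hz⟩ hU.isLocallyClosed
    obtain ⟨τ, l, hl, rfl, hc⟩ := htr x y hxc hyc
    apply hy
    have hsub : l '' interior (Set.range φ) ⊆ Set.range φ := by
      rintro _ ⟨w, hw, rfl⟩
      obtain ⟨w', rfl⟩ := interior_subset hw
      exact ⟨τ w', hc w'⟩
    have h1 : l '' interior (Set.range φ) ⊆ interior (Set.range φ) :=
      interior_maximal hsub (hl _ isOpen_interior)
    change φ (τ x) ∈ interior (Set.range φ)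
    rw [hc]
    exact h1 ⟨φ x, hx, rfl⟩
  rw [← interior_eq_iff_isOpen]
  refine Set.Subset.antisymm interior_subset ?_
  rintro _ ⟨x, rfl⟩
  have : x ∈ φ ⁻¹' interior (Set.range φ) := by rw [hall]; trivial
  exact this

end K497.OpenRange
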