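import Groth.Agent.Sga3C.Transl
import Groth.Prelude.Def_AGF
import Mathlib.AlgebraicGeometry.PullbackCarrier
import Mathlib.AlgebraicGeometry.Morphisms.UniversallyOpen
import Mathlib.AlgebraicGeometry.Morphisms.Smooth
import Mathlib.AlgebraicGeometry.Morphisms.Proper

/-!
# Closures of orbits and preimages under the action map

For an action `a` of a group scheme `K` with universally open structure morphism on `X`, a rational point `x` of `X` and
`Z` the closure of the orbit of `x`: the preimages of `Z` under the action map and the second projection `K × X → X`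
agree.
-/

set_option autoImplicit false

universe u

open CategoryTheory MonoidalCategory CartesianMonoidalCategory MonObj GrpObj AlgebraicGeometry Limits

namespace K497.OrbClos

open Groth.Agent.Sga3C.Transl

section Cat

variable {C : Type*} [Category* C] [CartesianMonoidalCategory C]

theorem isPullback_whiskerLeft (A : C) {X Y : C} (f : X ⟶ Y) : IsPullback (A ◁ f) (snd A X) (snd A Y) f where
  w := by simp
  isLimit' := ⟨PullbackCone.IsLimit.mk _ (fun s => lift (s.fst ≫ fst A Y) s.snd)
    (fun s => by
      apply CartesianMonoidalCategory.hom_ext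
      · simp
      · simp [s.condition])
    (fun s => by simp)
    (fun s m h1 h2 => by
      apply CartesianMonoidalCategory.hom_ext
      · simp [← h1]
      · simpa using h2)⟩

theorem isPullback_whiskerRight (A : C) {X Y : C} (f : X ⟶ Y) : IsPullback (f ▷ A) (fst X A) (fst Y A) f where
  w := by simp
  isLimit' := ⟨PullbackCone.IsLimit.mk _ (fun s => lift s.snd (s.fst ≫ snd Y A))
    (fun s => by
      apply CartesianMonoidalCategory.hom_ext
      · simp [s.condition]
      · simp)
    (fun s => by simp)
    (fun s m h1 h2 => by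
      apply CartesianMonoidalCategory.hom_ext
      · simpa using h2
      · simp [← h1])⟩

theorem isPullback_whiskerRight' {P X Y Z : C} {f : P ⟶ X} {g : P ⟶ Y} {h : X ⟶ Z} {l : Y ⟶ Z}
    (H : IsPullback f g h l) (A : C) : IsPullback (f ▷ A) (g ▷ A) (h ▷ A) (l ▷ A) where
  w := by rw [← comp_whiskerRight, ← comp_whiskerRight, H.w]
  isLimit' := ⟨PullbackCone.IsLimit.mk _
    (fun s => lift (H.lift (s.fst ≫ fst X A) (s.snd ≫ fst Y A) (by
      have := s.condition =≫ fst Z A
      simpa using this)) (s.fst ≫ snd X A))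
    (fun s => by
      apply CartesianMonoidalCategory.hom_ext <;> simp)
    (fun s => by
      have := s.condition =≫ snd Z A
      apply CartesianMonoidalCategory.hom_ext
      · simp
      · simpa using this)
    (fun s m h1 h2 => by
      apply CartesianMonoidalCategory.hom_ext
      · apply H.hom_ext
        · simp [← h1]
        · simp [← h2]
      · simp [← h1])⟩

end Cat

section Sch

variable {S : Scheme.{u}}

theorem comp_apply {X Y Z : Over S} (f : X ⟶ Y) (g : Y ⟶ Z) (x : X.left) : (f ≫ g).left x = g.left (f.left x) := by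
  simp

theorem exists_of_isPullback {P X Y Z : Over S} {f : P ⟶ X} {g : P ⟶ Y} {h : X ⟶ Z} {l : Y ⟶ Z}
    (H : IsPullback f g h l) (x : X.left) (y : Y.left) (hxy : h.left x = l.left y) :
    ∃ p : P.left, f.left p = x ∧ g.left p = y :=
  Scheme.exists_preimage_of_isPullback (H.map (Over.forget S)) x y hxy


variable {G H X Y : Over S} [GrpObj G] [GrpObj H] (a : AlgGrp.Action G X)

theorem comp_orbitMap (o : 𝟙_ (Over S) ⟶ X) {T : Over S} (g : T ⟶ G) :
    g ≫ a.orbitMap o = lift g (toUnit T ≫ o) ≫ a.act := by
  rw [AlgGrp.Action.orbitMap, ← Category.assoc, comp_lift, Category.comp_id, ← Category.assoc,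
    comp_toUnit]

/-- Restriction of an action along a homomorphism. -/
noncomputable def restrict (i : H ⟶ G) [IsMonHom i] : AlgGrp.Action H X where
  act := (i ▷ X) ≫ a.act
  one_act := by
    rw [← Category.assoc, ← comp_whiskerRight, IsMonHom.one_hom, a.one_act]
  mul_act := by
    have h := a.mul_act
    rw [← Category.assoc, ← comp_whiskerRight, IsMonHom.mul_hom, comp_whiskerRight,
      Category.assoc, h]
    simp only [tensorHom_def, comp_whiskerRight, Category.assoc, MonoidalCategory.whiskerLeft_comp,
      whisker_assoc, Iso.inv_hom_id_assoc]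
    rw [whisker_exchange_assoc (f := i) (g := a.act)]
    rw [whisker_exchange_assoc (f := i) (g := i ▷ X)]
    rw [← associator_naturality_left_assoc]

theorem lift_restrict_act (i : H ⟶ G) [IsMonHom i] {T : Over S}
    (h : T ⟶ H) (x : T ⟶ X) : lift h x ≫ (restrict a i).act = lift (h ≫ i) x ≫ a.act := by
  rw [restrict, ← Category.assoc, lift_whiskerRight]

theorem orbitMap_restrict (i : H ⟶ G) [IsMonHom i] (o : 𝟙_ (Over S) ⟶ X) :
    (restrict a i).orbitMap o = i ≫ a.orbitMap o := by
  rw [comp_orbitMap, AlgGrp.Action.orbitMap, lift_restrict_act, Category.id_comp]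

theorem whiskerLeft_orbitMap_act (o : 𝟙_ (Over S) ⟶ X) :
    (G ◁ a.orbitMap o) ≫ a.act = μ[G] ≫ a.orbitMap o := by
  have h1 : (G ◁ a.orbitMap o) = lift (fst G G) (snd G G ≫ a.orbitMap o) := by
    apply CartesianMonoidalCategory.hom_ext <;> simp
  have h2 : μ[G] = fst G G * snd G G := by
    rw [Hom.mul_def, lift_fst_snd, Category.id_comp]
  rw [h1, h2, comp_orbitMap, comp_orbitMap, lift_mul_act]

theorem lift_self_act : lift (fst G X) (snd G X) ≫ a.act = a.act := by
  rw [lift_fst_snd, Category.id_comp]

/-- `(g, x) ↦ (g⁻¹, g x)`. -/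
noncomputable def flip : G ⊗ X ⟶ G ⊗ X := lift (fst G X)⁻¹ a.act

theorem flip_snd : flip a ≫ snd G X = a.act := by simp [flip]

theorem flip_act : flip a ≫ a.act = snd G X := by
  have h : flip a = lift (fst G X)⁻¹ (lift (fst G X) (snd G X) ≫ a.act) := by
    rw [lift_self_act, flip]
  rw [h, ← lift_mul_act, inv_mul_cancel, lift_one_act]

theorem snd_mem_imp (o : 𝟙_ (Over S) ⟶ X) (w : (G ⊗ X).left)
    (hw : (snd G X).left w ∈ Set.range (a.orbitMap o).left) : a.act.left w ∈ Set.range (a.orbitMap o).left := by
  obtain ⟨g', hg'⟩ := hw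
  obtain ⟨w', h1, -⟩ := exists_of_isPullback (isPullback_whiskerLeft G (a.orbitMap o)) w g' hg'.symm
  refine ⟨μ[G].left w', ?_⟩
  rw [← comp_apply, ← whiskerLeft_orbitMap_act, comp_apply, h1]

theorem mem_orbit_iff (o : 𝟙_ (Over S) ⟶ X) (w : (G ⊗ X).left) :
    a.act.left w ∈ Set.range (a.orbitMap o).left ↔ (snd G X).left w ∈ Set.range (a.orbitMap o).left := by
  refine ⟨fun h => ?_, snd_mem_imp a o w⟩
  have h1 := snd_mem_imp a o ((flip a).left w) (by rwa [← comp_apply, flip_snd])
  rwa [← comp_apply, flip_act] at h1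

omit [GrpObj G] in
theorem universallyOpen_snd [UniversallyOpen G.hom] : UniversallyOpen (snd G X).left := by
  rw [Over.snd_left]; infer_instance

theorem transl_hom_snd : (transl a (𝟙 G)).hom ≫ snd G X = a.act := by
  change translHom a (𝟙 G) ≫ snd G X = a.act
  rw [translHom_snd, Category.comp_id, lift_self_act]

theorem isOpenMap_act [UniversallyOpen G.hom] : IsOpenMap a.act.left := by
  have h1 := universallyOpen_snd (G := G) (X := X)
  have h2 : IsIso (transl a (𝟙 G)).hom.left := (Over.forget _).map_isIso (transl a (𝟙 G)).hom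
  rw [← transl_hom_snd, Over.comp_left]
  exact ((transl a (𝟙 G)).hom.left ≫ (snd G X).left).isOpenMap

theorem preimage_closure [UniversallyOpen G.hom] (o : 𝟙_ (Over S) ⟶ X) :
    a.act.left ⁻¹' closure (Set.range (a.orbitMap o).left) =
      (snd G X).left ⁻¹' closure (Set.range (a.orbitMap o).left) := by
  have h1 := universallyOpen_snd (G := G) (X := X)
  rw [(isOpenMap_act a).preimage_closure_eq_closure_preimage a.act.left.continuous,
    (snd G X).left.isOpenMap.preimage_closure_eq_closure_preimage (snd G X).left.continuous]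
  congr 1
  ext w
  exact mem_orbit_iff a o w

/-- Closure of an orbit when the quotient by a subgroup is universally closed. -/
theorem closure_orbit [UniversallyOpen G.hom] [UniversallyOpen H.hom] (i : H ⟶ G) [IsMonHom i]
    (π : G ⟶ Y) (hπ : IsPullback (fst G H) ((G ◁ i) ≫ μ[G]) π π) [Surjective π.left]
    [UniversallyOpen π.left] [UniversallyClosed Y.hom] (x : 𝟙_ (Over S) ⟶ X) :
    closure (Set.range (a.orbitMap x).left) =
      a.act.left '' ((snd G X).left ⁻¹' closure (Set.range (i ≫ a.orbitMap x).left)) := by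
  set Z : Set X.left := closure (Set.range (i ≫ a.orbitMap x).left) with hZ
  have hZcl : IsClosed Z := isClosed_closure
  have hZG : Z ⊆ closure (Set.range (a.orbitMap x).left) := by
    apply closure_mono
    rintro _ ⟨h, rfl⟩
    exact ⟨i.left h, by rw [← comp_apply]⟩
  let d : G ⊗ X ⟶ X := lift (fst G X)⁻¹ (snd G X) ≫ a.act
  have e1 : lift (fst G X) a.act ≫ d = snd G X := by
    change lift (fst G X) a.act ≫ lift (fst G X)⁻¹ (snd G X) ≫ a.act = snd G X
    rw [← Category.assoc, comp_lift, GrpObj.comp_inv, lift_fst, lift_snd]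
    exact flip_act a
  have e2 : lift (fst G X) d ≫ a.act = snd G X := by
    change lift (fst G X) (lift (fst G X)⁻¹ (snd G X) ≫ a.act) ≫ a.act = snd G X
    rw [← lift_mul_act, mul_inv_cancel, lift_one_act]
  have hE : a.act.left '' ((snd G X).left ⁻¹' Z) = (snd G X).left '' (d.left ⁻¹' Z) := by
    apply Set.Subset.antisymm
    · rintro _ ⟨w, hw, rfl⟩
      refine ⟨(lift (fst G X) a.act).left w, ?_, ?_⟩
      · rw [Set.mem_preimage, ← comp_apply, e1]; exact hw
      · rw [← comp_apply, lift_snd]
    · rintro _ ⟨w, hw, rfl⟩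
      refine ⟨(lift (fst G X) d).left w, ?_, ?_⟩
      · rw [Set.mem_preimage, ← comp_apply, lift_snd]; exact hw
      · rw [← comp_apply, e2]
  -- `Z` is stable under `H`
  have hH : ∀ u : (H ⊗ X).left,
      (lift (fst H X)⁻¹ (snd H X) ≫ (restrict a i).act).left u ∈ Z ↔ (snd H X).left u ∈ Z := by
    intro u
    have h1 := preimage_closure (restrict a i) x
    rw [orbitMap_restrict, ← hZ] at h1
    have h2 : (lift (fst H X)⁻¹ (snd H X)).left u ∈ (restrict a i).act.left ⁻¹' Z ↔
        (lift (fst H X)⁻¹ (snd H X)).left u ∈ (snd H X).left ⁻¹' Z := by rw [h1]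
    rw [Set.mem_preimage, Set.mem_preimage, ← comp_apply, ← comp_apply, lift_snd] at h2
    exact h2
  -- `E` is saturated
  have hsat : ∀ e e' : (G ⊗ X).left, (π ▷ X).left e = (π ▷ X).left e' → d.left e ∈ Z → d.left e' ∈ Z := by
    intro e e' hee he
    obtain ⟨w, rfl, rfl⟩ := exists_of_isPullback (isPullback_whiskerRight' hπ X) e e' hee
    have f1 : (((G ◁ i) ≫ μ[G]) ▷ X) ≫ d =
        lift (fst _ X ≫ snd G H) ((fst G H ▷ X) ≫ d) ≫ lift (fst H X)⁻¹ (snd H X) ≫ (restrict a i).act := by
      have m1 : (G ◁ i) ≫ μ[G] = fst G H * (snd G H ≫ i) := by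
        rw [Hom.mul_def]; congr 1
      change (((G ◁ i) ≫ μ[G]) ▷ X) ≫ lift (fst G X)⁻¹ (snd G X) ≫ a.act =
        lift (fst _ X ≫ snd G H) ((fst G H ▷ X) ≫ lift (fst G X)⁻¹ (snd G X) ≫ a.act) ≫
          lift (fst H X)⁻¹ (snd H X) ≫ (restrict a i).act
      rw [← Category.assoc, ← Category.assoc, comp_lift, comp_lift, GrpObj.comp_inv, GrpObj.comp_inv,
        whiskerRight_fst, whiskerRight_snd, lift_fst, lift_snd, lift_restrict_act, GrpObj.inv_comp,
        ← Category.assoc (fst G H ▷ X), comp_lift, GrpObj.comp_inv, whiskerRight_fst, whiskerRight_snd,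
        m1, MonObj.comp_mul, _root_.mul_inv_rev, lift_mul_act, Category.assoc]
    rw [← comp_apply, f1, comp_apply, hH, ← comp_apply, lift_snd, comp_apply]
    exact he
  have hcl : IsClosed (a.act.left '' ((snd G X).left ⁻¹' Z)) := by
    rw [hE]
    have hq : (π ▷ X).left '' (d.left ⁻¹' Z) = (π ▷ X).left '' (d.left ⁻¹' Z) := rfl
    have hsurj : Surjective (π ▷ X).left :=
      MorphismProperty.of_isPullback (P := @Surjective)
        ((isPullback_whiskerRight X π).map (Over.forget S)).flip (by assumption)
    have hopen : UniversallyOpen (π ▷ X).left :=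
      MorphismProperty.of_isPullback (P := @UniversallyOpen)
        ((isPullback_whiskerRight X π).map (Over.forget S)).flip (by assumption)
    have hclosed : UniversallyClosed (snd Y X).left := by
      rw [Over.snd_left]; infer_instance
    have h1 : IsClosed ((π ▷ X).left '' (d.left ⁻¹' Z)) := by
      have hqm : Topology.IsQuotientMap (π ▷ X).left :=
        (π ▷ X).left.isOpenMap.isQuotientMap (π ▷ X).left.continuous (π ▷ X).left.surjective
      rw [← hqm.isClosed_preimage]
      have h2 : (π ▷ X).left ⁻¹' ((π ▷ X).left '' (d.left ⁻¹' Z)) = d.left ⁻¹' Z := by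
        apply Set.Subset.antisymm
        · rintro e' ⟨e, he, hee⟩
          exact hsat e e' hee he
        · exact Set.subset_preimage_image _ _
      rw [h2]
      exact hZcl.preimage d.left.continuous
    have h3 : (snd G X).left '' (d.left ⁻¹' Z) = (snd Y X).left '' ((π ▷ X).left '' (d.left ⁻¹' Z)) := by
      rw [← Set.image_comp]
      congr 1
      ext w
      rw [Function.comp_apply, ← comp_apply]
      simp
    rw [h3]
    exact (snd Y X).left.isClosedMap _ h1
  apply Set.Subset.antisymm
  · apply closure_minimal _ hcl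
    rintro _ ⟨g, rfl⟩
    refine ⟨(lift (𝟙 G) (toUnit G ≫ x)).left g, ?_, ?_⟩
    · rw [Set.mem_preimage, ← comp_apply, lift_snd]
      apply subset_closure
      have hx : η[H] ≫ i ≫ a.orbitMap x = x := by
        have h1 : toUnit (𝟙_ (Over S)) = 𝟙 _ := toUnit_unique _ _
        have h2 : η[H] ≫ i = (1 : 𝟙_ (Over S) ⟶ G) := by
          rw [IsMonHom.one_hom, Hom.one_def, h1, Category.id_comp]
        rw [← Category.assoc, h2, comp_orbitMap, h1, Category.id_comp, lift_one_act]
      refine ⟨η[H].left ((toUnit G).left g), ?_⟩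
      rw [← comp_apply, ← comp_apply, hx]
    · rw [← comp_apply]; rfl
  · rintro _ ⟨w, hw, rfl⟩
    have h1 := preimage_closure a x
    have h2 : w ∈ (snd G X).left ⁻¹' closure (Set.range (a.orbitMap x).left) := hZG hw
    rw [← h1] at h2
    exact h2

end Sch

end K497.OrbClos
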