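import Groth.Agent.Sga3B.RG.RepAlg
import Groth.Agent.Sga3B.RG.UnipRep

/-!
# Rational representations of the group of points of a Hopf algebra, of any dimension

`A` is a commutative Hopf algebra over the field `K`, `Pt K A` its group of `K`-points.

* `ev M g : A ⊗ M → M`: evaluation at the point `g` of a function with values in `M`;
* `IsPol F`: the map `F : Pt K A → M` is given by an element of `A ⊗ M`;
* `IsRat ρ`: all orbit maps of the representation `ρ` (of any dimension) are polynomial;
* local finiteness; sub- and quotient representations; comparison with `IsAlg` in finite dimension;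
* actions on algebras: `IsRatA σ` for `σ : Pt K A →* (R →ₐ[K] R)`; rationality can be tested on algebra generators.
-/

set_option autoImplicit false

universe u w w'

open TensorProduct Groth.Agent.Sga3B.RG

namespace K497.Rat

section Ev

variable {K : Type u} [Field K] {A : Type u} [CommRing A] [HopfAlgebra K A]
variable {B : Type u} [CommRing B] [HopfAlgebra K B]
variable {M : Type w} [AddCommGroup M] [Module K M] {N : Type w'} [AddCommGroup N] [Module K N]

variable (M) in
/-- Evaluation at a point of a function with values in `M`. -/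
noncomputable def ev (g : Pt K A) : A ⊗[K] M →ₗ[K] M :=
  (TensorProduct.lid K M).toLinearMap ∘ₗ LinearMap.rTensor M g.ofConv.toLinearMap

@[simp] lemma ev_tmul (g : Pt K A) (a : A) (m : M) : ev M g (a ⊗ₜ[K] m) = g a • m := by
  simp only [ev, LinearMap.comp_apply, LinearMap.rTensor_tmul, LinearEquiv.coe_coe, TensorProduct.lid_tmul]
  rfl

lemma ev_lTensor (g : Pt K A) (f : M →ₗ[K] N) (t : A ⊗[K] M) :
    ev N g (LinearMap.lTensor A f t) = f (ev M g t) := by
  induction t using TensorProduct.induction_on with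
  | zero => simp
  | tmul a m => simp
  | add x y hx hy => rw [map_add, map_add, map_add, map_add, hx, hy]

/-- The image of an evaluation lies in the span of finitely many vectors. -/
lemma exists_span (t : A ⊗[K] M) : ∃ s : Finset M, ∀ g : Pt K A, ev M g t ∈ Submodule.span K (s : Set M) := by
  classical
  induction t using TensorProduct.induction_on with
  | zero => exact ⟨∅, fun g => by simp⟩
  | tmul a m => exact ⟨{m}, fun g => by
      rw [ev_tmul]; exact Submodule.smul_mem _ _ (Submodule.subset_span (by simp))⟩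
  | add x y hx hy =>
    obtain ⟨s, hs⟩ := hx
    obtain ⟨s', hs'⟩ := hy
    refine ⟨s ∪ s', fun g => ?_⟩
    rw [map_add]
    exact add_mem (Submodule.span_mono (by simp) (hs g)) (Submodule.span_mono (by simp) (hs' g))

/-- Coordinates of an evaluation. -/
lemma exists_coord (K : Type u) [Field K] (A : Type u) [CommRing A] [HopfAlgebra K A] (M : Type w)
    [AddCommGroup M] [Module K M] :
    ∃ (I : Type w) (e : A ⊗[K] M ≃ₗ[K] (I →₀ A)) (b : Module.Basis I K M), ∀ (g : Pt K A) (t : A ⊗[K] M) (j : I),
      g (e t j) = b.repr (ev M g t) j := by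
  classical
  let b := Module.Free.chooseBasis K M
  refine ⟨_, (TensorProduct.congr (LinearEquiv.refl K A) b.repr) ≪≫ₗ TensorProduct.finsuppScalarRight K K A _, b,
    fun g t j => ?_⟩
  induction t using TensorProduct.induction_on with
  | zero => rw [map_zero, map_zero, map_zero, Finsupp.zero_apply, Finsupp.zero_apply]; exact Pt.apply_zero g
  | tmul a m =>
    rw [ev_tmul, map_smul, Finsupp.smul_apply]
    simp only [LinearEquiv.trans_apply, TensorProduct.congr_tmul, LinearEquiv.refl_apply,
      TensorProduct.finsuppScalarRight_apply_tmul_apply]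
    rw [Pt.apply_smul, smul_eq_mul, mul_comm]
  | add x y hx hy =>
    rw [map_add, map_add, map_add, Finsupp.add_apply, Finsupp.add_apply, Pt.apply_add, hx, hy]

/-- Points separate functions with values in a vector space. -/
theorem eq_zero_of_ev [IsAlgClosed K] [Algebra.FiniteType K A] [IsReduced A] {t : A ⊗[K] M}
    (h : ∀ g : Pt K A, ev M g t = 0) : t = 0 := by
  obtain ⟨I, e, b, he⟩ := exists_coord K A M
  apply e.injective
  rw [map_zero]
  ext j
  rw [Finsupp.zero_apply]
  apply eq_zero_of_forall_pt (K := K)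
  intro g
  rw [he, h g, map_zero, Finsupp.zero_apply]

theorem eq_of_ev [IsAlgClosed K] [Algebra.FiniteType K A] [IsReduced A] {t t' : A ⊗[K] M}
    (h : ∀ g : Pt K A, ev M g t = ev M g t') : t = t' := by
  rw [← sub_eq_zero]
  exact eq_zero_of_ev fun g => by rw [map_sub, h g, sub_self]

end Ev

section Pol

variable {K : Type u} [Field K] {A : Type u} [CommRing A] [HopfAlgebra K A]
variable {B : Type u} [CommRing B] [HopfAlgebra K B]
variable {M : Type*} [AddCommGroup M] [Module K M] {N : Type*} [AddCommGroup N] [Module K N]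
variable {P : Type*} [AddCommGroup P] [Module K P]

/-- Polynomial maps from the group of points to a vector space. -/
def IsPol (F : Pt K A → M) : Prop := ∃ t : A ⊗[K] M, ∀ g, F g = ev M g t

lemma isPol_const (m : M) : IsPol (fun _ : Pt K A => m) :=
  ⟨1 ⊗ₜ m, fun g => by rw [ev_tmul, Pt.apply_one, one_smul]⟩

lemma IsPol.congr {F F' : Pt K A → M} (h : IsPol F) (he : ∀ g, F' g = F g) : IsPol F' := by
  obtain ⟨t, ht⟩ := h
  exact ⟨t, fun g => by rw [he, ht]⟩

lemma IsPol.add {F F' : Pt K A → M} (h : IsPol F) (h' : IsPol F') : IsPol (fun g => F g + F' g) := by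
  obtain ⟨t, ht⟩ := h
  obtain ⟨t', ht'⟩ := h'
  exact ⟨t + t', fun g => by rw [map_add, ← ht, ← ht']⟩

lemma IsPol.sub {F F' : Pt K A → M} (h : IsPol F) (h' : IsPol F') : IsPol (fun g => F g - F' g) := by
  obtain ⟨t, ht⟩ := h
  obtain ⟨t', ht'⟩ := h'
  exact ⟨t - t', fun g => by rw [map_sub, ← ht, ← ht']⟩

lemma IsPol.const_smul {F : Pt K A → M} (h : IsPol F) (c : K) : IsPol (fun g => c • F g) := by
  obtain ⟨t, ht⟩ := h
  exact ⟨c • t, fun g => by rw [map_smul, ← ht]⟩

lemma IsPol.sum {I : Type*} (s : Finset I) {F : I → Pt K A → M} (h : ∀ i ∈ s, IsPol (F i)) :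
    IsPol (fun g => ∑ i ∈ s, F i g) := by
  classical
  induction s using Finset.induction_on with
  | empty => simpa using isPol_const (0 : M)
  | insert i s hi ih =>
    refine ((h i (Finset.mem_insert_self _ _)).add (ih fun j hj => h j (Finset.mem_insert_of_mem hj))).congr
      fun g => ?_
    rw [Finset.sum_insert hi]

lemma isPol_apply_smul (a : A) (m : M) : IsPol (fun g : Pt K A => g a • m) :=
  ⟨a ⊗ₜ m, fun g => by rw [ev_tmul]⟩

lemma isPol_apply (a : A) : IsPol (fun g : Pt K A => g a) :=
  ⟨a ⊗ₜ 1, fun g => by rw [ev_tmul, smul_eq_mul, mul_one]⟩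

lemma isPol_iff_isFun {F : Pt K A → K} : IsPol F ↔ IsFun F := by
  constructor
  · rintro ⟨t, ht⟩
    refine ⟨TensorProduct.rid K A t, fun g => ?_⟩
    rw [ht]
    clear ht
    induction t using TensorProduct.induction_on with
    | zero => rw [map_zero, map_zero, Pt.apply_zero]
    | tmul a c => rw [ev_tmul, TensorProduct.rid_tmul, Pt.apply_smul, smul_eq_mul, mul_comm]
    | add x y hx hy => rw [map_add, map_add, Pt.apply_add, hx, hy]
  · rintro ⟨a, ha⟩
    exact (isPol_apply a).congr ha

lemma IsPol.map {F : Pt K A → M} (h : IsPol F) (f : M →ₗ[K] N) : IsPol (fun g => f (F g)) := by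
  obtain ⟨t, ht⟩ := h
  exact ⟨LinearMap.lTensor A f t, fun g => by rw [ev_lTensor, ← ht]⟩

/-- A bilinear map applied to polynomial maps gives a polynomial map. -/
lemma IsPol.map₂ {F : Pt K A → M} (h : IsPol F) {F' : Pt K A → N} (h' : IsPol F') (β : M →ₗ[K] N →ₗ[K] P) :
    IsPol (fun g => β (F g) (F' g)) := by
  obtain ⟨t, ht⟩ := h
  obtain ⟨t', ht'⟩ := h'
  suffices H : ∀ (t : A ⊗[K] M) (t' : A ⊗[K] N), IsPol (fun g : Pt K A => β (ev M g t) (ev N g t')) from
    (H t t').congr fun g => by rw [ht, ht']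
  intro t t'
  induction t using TensorProduct.induction_on with
  | zero => simpa using isPol_const (0 : P)
  | tmul a m =>
    induction t' using TensorProduct.induction_on with
    | zero => simpa using isPol_const (0 : P)
    | tmul b n =>
      refine (isPol_apply_smul (a * b) (β m n)).congr fun g => ?_
      rw [ev_tmul, ev_tmul, LinearMap.map_smul₂, map_smul, smul_smul, Pt.apply_mul]
    | add x y hx hy =>
      refine (hx.add hy).congr fun g => ?_
      rw [map_add, map_add]
  | add x y hx hy =>
    refine (hx.add hy).congr fun g => ?_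
    rw [map_add, map_add, LinearMap.add_apply]

lemma IsPol.smul {F : Pt K A → K} (h : IsPol F) {F' : Pt K A → M} (h' : IsPol F') :
    IsPol (fun g => F g • F' g) :=
  (h.map₂ h' (LinearMap.lsmul K M)).congr fun _ => rfl

lemma IsPol.tmul {F : Pt K A → M} (h : IsPol F) {F' : Pt K A → N} (h' : IsPol F') :
    IsPol (fun g => F g ⊗ₜ[K] F' g) :=
  (h.map₂ h' (TensorProduct.mk K M N)).congr fun _ => rfl

lemma IsPol.mul {R : Type*} [CommRing R] [Algebra K R] {F : Pt K A → R} (h : IsPol F) {F' : Pt K A → R}
    (h' : IsPol F') : IsPol (fun g => F g * F' g) :=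
  (h.map₂ h' (LinearMap.mul K R)).congr fun _ => rfl

lemma IsPol.comp_reg {F : Pt K B → M} (h : IsPol F) {φ : Pt K A → Pt K B} (hφ : IsReg φ) :
    IsPol (fun g => F (φ g)) := by
  obtain ⟨t, ht⟩ := h
  suffices H : ∀ t : B ⊗[K] M, IsPol (fun g : Pt K A => ev M (φ g) t) from (H t).congr fun g => ht _
  intro t
  induction t using TensorProduct.induction_on with
  | zero => simpa using isPol_const (0 : M)
  | tmul b m =>
    obtain ⟨a, ha⟩ := hφ b
    exact (isPol_apply_smul a m).congr fun g => by rw [ev_tmul, ha]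
  | add x y hx hy => exact (hx.add hy).congr fun g => by rw [map_add]

/-- The values of a polynomial map span a finite-dimensional space. -/
lemma IsPol.exists_finite {F : Pt K A → M} (h : IsPol F) :
    ∃ W : Submodule K M, FiniteDimensional K W ∧ ∀ g, F g ∈ W := by
  obtain ⟨t, ht⟩ := h
  obtain ⟨s, hs⟩ := exists_span t
  exact ⟨Submodule.span K (s : Set M), FiniteDimensional.span_finset K s, fun g => by rw [ht]; exact hs g⟩

lemma IsPol.finite_span {F : Pt K A → M} (h : IsPol F) :
    FiniteDimensional K (Submodule.span K (Set.range F)) := by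
  obtain ⟨W, hW, hF⟩ := h.exists_finite
  refine Submodule.finiteDimensional_of_le (S₂ := W) ?_
  rw [Submodule.span_le]
  rintro _ ⟨g, rfl⟩
  exact hF g

/-- Polynomiality can be tested after an injective linear map. -/
lemma IsPol.of_injective {F : Pt K A → M} (f : M →ₗ[K] N) (hf : Function.Injective f)
    (h : IsPol (fun g => f (F g))) : IsPol F := by
  obtain ⟨ψ, hψ⟩ := f.exists_leftInverse_of_injective (LinearMap.ker_eq_bot.2 hf)
  exact (h.map ψ).congr fun g => (LinearMap.congr_fun hψ (F g)).symm

lemma IsPol.codRestrict {F : Pt K A → M} (h : IsPol F) (W : Submodule K M) (hW : ∀ g, F g ∈ W) :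
    IsPol (fun g => (⟨F g, hW g⟩ : W)) :=
  IsPol.of_injective W.subtype W.injective_subtype h

lemma IsPol.isCl_eq {F : Pt K A → M} (h : IsPol F) {F' : Pt K A → M} (h' : IsPol F') :
    IsCl {g | F g = F' g} := by
  have : {g | F g = F' g} = ⋂ f : Module.Dual K M, {g | f (F g) = f (F' g)} := by
    ext g
    simp only [Set.mem_ofPred_eq, Set.mem_iInter]
    refine ⟨fun h f => by rw [h], fun h => ?_⟩
    rw [← sub_eq_zero, ← Module.forall_dual_apply_eq_zero_iff K]
    intro f
    rw [map_sub, h f, sub_self]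
  rw [this]
  exact isCl_iInter fun f => (isPol_iff_isFun.1 (h.map f)).isCl_eq (isPol_iff_isFun.1 (h'.map f))

lemma IsPol.isCl_mem {F : Pt K A → M} (h : IsPol F) (W : Submodule K M) : IsCl {g | F g ∈ W} := by
  have : {g | F g ∈ W} = {g | W.mkQ (F g) = (0 : M ⧸ W)} := by
    ext g
    simp [Submodule.Quotient.mk_eq_zero]
  rw [this]
  exact (h.map W.mkQ).isCl_eq (isPol_const 0)

end Pol

section Rep

variable {K : Type u} [Field K] {A : Type u} [CommRing A] [HopfAlgebra K A]
variable {B : Type u} [CommRing B] [HopfAlgebra K B]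
variable {M : Type w} [AddCommGroup M] [Module K M] {N : Type w'} [AddCommGroup N] [Module K N]

/-- A representation is rational when its orbit maps are polynomial. -/
def IsRat (ρ : Representation K (Pt K A) M) : Prop := ∀ m, IsPol (fun g => ρ g m)

lemma IsRat.isAlg {ρ : Representation K (Pt K A) M} (h : IsRat ρ) : IsAlg ρ := fun f v =>
  isPol_iff_isFun.1 ((h v).map f)

lemma isRat_of_isAlg [FiniteDimensional K M] {ρ : Representation K (Pt K A) M} (h : IsAlg ρ) : IsRat ρ := by
  intro m
  let b := Module.finBasis K M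
  refine (IsPol.sum Finset.univ fun i (_ : i ∈ Finset.univ) =>
    ((isPol_iff_isFun.2 (h.isFun (b.coord i) m)).smul (isPol_const (b i)))).congr fun g => ?_
  exact (b.sum_repr (ρ g m)).symm

lemma isRat_iff_isAlg [FiniteDimensional K M] {ρ : Representation K (Pt K A) M} : IsRat ρ ↔ IsAlg ρ :=
  ⟨IsRat.isAlg, isRat_of_isAlg⟩

lemma IsRat.of_injective {ρ : Representation K (Pt K A) M} (h : IsRat ρ) {σ : Representation K (Pt K A) N}
    (f : N →ₗ[K] M) (hf : Function.Injective f) (he : ∀ g n, f (σ g n) = ρ g (f n)) : IsRat σ := fun n =>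
  IsPol.of_injective f hf ((h (f n)).congr fun g => he g n)

lemma IsRat.of_surjective {ρ : Representation K (Pt K A) M} (h : IsRat ρ) {σ : Representation K (Pt K A) N}
    (f : M →ₗ[K] N) (hf : Function.Surjective f) (he : ∀ g m, f (ρ g m) = σ g (f m)) : IsRat σ := by
  intro n
  obtain ⟨m, rfl⟩ := hf n
  exact ((h m).map f).congr fun g => (he g m).symm

lemma IsRat.subrepresentation {ρ : Representation K (Pt K A) M} (h : IsRat ρ) (U : Submodule K M)
    (hU : ∀ g, U ≤ U.comap (ρ g)) : IsRat (ρ.subrepresentation U hU) :=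
  h.of_injective U.subtype U.injective_subtype fun _ _ => rfl

lemma IsRat.quotient {ρ : Representation K (Pt K A) M} (h : IsRat ρ) (U : Submodule K M)
    (hU : ∀ g, U ≤ U.comap (ρ g)) : IsRat (ρ.quotient U hU) :=
  h.of_surjective U.mkQ U.mkQ_surjective fun _ _ => rfl

lemma IsRat.comp_map {ρ : Representation K (Pt K A) M} (h : IsRat ρ) (φ : A →ₐc[K] B) :
    IsRat (ρ.comp (Pt.map φ) : Representation K (Pt K B) M) := fun m =>
  (h m).comp_reg (isReg_map φ)

/-- The span of the orbit of a vector under a set of operators. -/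
def orb (ρ : Representation K (Pt K A) M) (X : Set M) : Submodule K M :=
  Submodule.span K {m | ∃ g, ∃ x ∈ X, m = ρ g x}

lemma subset_orb (ρ : Representation K (Pt K A) M) (X : Set M) : X ⊆ orb ρ X := fun x hx =>
  Submodule.subset_span ⟨1, x, hx, by rw [map_one]; rfl⟩

lemma orb_stable (ρ : Representation K (Pt K A) M) (X : Set M) (g : Pt K A) : orb ρ X ≤ (orb ρ X).comap (ρ g) := by
  rw [orb, Submodule.span_le]
  rintro _ ⟨h, x, hx, rfl⟩
  exact Submodule.subset_span ⟨g * h, x, hx, by rw [map_mul]; rfl⟩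

lemma orb_le (ρ : Representation K (Pt K A) M) {X : Set M} {U : Submodule K M} (hX : X ⊆ U)
    (hU : ∀ g, U ≤ U.comap (ρ g)) : orb ρ X ≤ U := by
  rw [orb, Submodule.span_le]
  rintro _ ⟨h, x, hx, rfl⟩
  exact hU h (hX hx)

/-- Rational representations are locally finite. -/
lemma IsRat.finite_orb {ρ : Representation K (Pt K A) M} (h : IsRat ρ) {X : Set M} (hX : X.Finite) :
    FiniteDimensional K (orb ρ X) := by
  classical
  choose W hW hF using fun m => (h m).exists_finite
  have : Finite X := hX
  have h1 : orb ρ X ≤ ⨆ x : X, W x := by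
    rw [orb, Submodule.span_le]
    rintro _ ⟨g, x, hx, rfl⟩
    exact (le_iSup (fun x : X => W x) ⟨x, hx⟩) (hF x g)
  have : ∀ x : X, FiniteDimensional K (W x) := fun x => hW x
  exact Submodule.finiteDimensional_of_le h1

/-- Every finite-dimensional subspace lies in a finite-dimensional stable subspace. -/
lemma IsRat.exists_stable {ρ : Representation K (Pt K A) M} (h : IsRat ρ) (S : Submodule K M)
    [FiniteDimensional K S] :
    ∃ U : Submodule K M, FiniteDimensional K U ∧ S ≤ U ∧ ∀ g, U ≤ U.comap (ρ g) := by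
  obtain ⟨s, hs⟩ := (Module.Finite.iff_fg (N := S)).1 inferInstance
  refine ⟨orb ρ (s : Set M), h.finite_orb s.finite_toSet, ?_, orb_stable ρ _⟩
  rw [← hs, Submodule.span_le]
  exact subset_orb ρ _

end Rep

section Unip

variable {K : Type u} [Field K] [IsAlgClosed K] {A : Type u} [CommRing A] [HopfAlgebra K A]
variable {M : Type w} [AddCommGroup M] [Module K M]

/-- A group of unipotent points has a nonzero fixed vector in every nonzero stable subspace of a rational
representation. -/
theorem IsRat.exists_fixed {ρ : Representation K (Pt K A) M} (h : IsRat ρ) {U : Subgroup (Pt K A)}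
    (hU : ∀ g ∈ U, IsUnip g) (W : Submodule K M) (hW : ∀ g ∈ U, ∀ w ∈ W, ρ g w ∈ W) (hW0 : W ≠ ⊥) :
    ∃ v ∈ W, v ≠ 0 ∧ ∀ g ∈ U, ρ g v = v := by
  obtain ⟨w, hw, hw0⟩ := Submodule.exists_mem_ne_zero_of_ne_bot hW0
  have hfin := h.finite_orb (Set.finite_singleton w)
  set V := orb ρ {w} with hV
  let σ : Representation K U V := (ρ.subrepresentation V (orb_stable ρ _)).comp U.subtype
  have hr : IsRat (ρ.subrepresentation V (orb_stable ρ _)) := h.subrepresentation _ _
  obtain ⟨v, hvW, hv0, hv⟩ := exists_fixed_mem σ (W.comap V.subtype) (fun g x hx => hW g g.2 _ hx)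
    (fun hbot => by
      have : (⟨w, subset_orb ρ _ rfl⟩ : V) ∈ W.comap V.subtype := hw
      rw [hbot, Submodule.mem_bot] at this
      exact hw0 (congrArg Subtype.val this))
    (fun g => (hU g g.2).rep hr.isAlg)
  exact ⟨v, hvW, fun h0 => hv0 (Subtype.ext h0), fun g hg => congrArg Subtype.val (hv ⟨g, hg⟩)⟩

end Unip

section AlgAct

variable {K : Type u} [Field K] {A : Type u} [CommRing A] [HopfAlgebra K A]
variable {R : Type w} [CommRing R] [Algebra K R] {R' : Type w'} [CommRing R'] [Algebra K R']

/-- The representation underlying an action by algebra endomorphisms. -/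
noncomputable def toRep (σ : Pt K A →* (R →ₐ[K] R)) : Representation K (Pt K A) R where
  toFun g := (σ g).toLinearMap
  map_one' := by rw [map_one]; rfl
  map_mul' g h := by rw [map_mul]; rfl

@[simp] lemma toRep_apply (σ : Pt K A →* (R →ₐ[K] R)) (g : Pt K A) (r : R) : toRep σ g r = σ g r := rfl

lemma act_mul (σ : Pt K A →* (R →ₐ[K] R)) (g h : Pt K A) (r : R) : σ (g * h) r = σ g (σ h r) := by
  rw [map_mul]; rfl

lemma act_one (σ : Pt K A →* (R →ₐ[K] R)) (r : R) : σ 1 r = r := by
  rw [map_one]; rfl

lemma act_inv (σ : Pt K A →* (R →ₐ[K] R)) (g : Pt K A) (r : R) : σ g⁻¹ (σ g r) = r := by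
  rw [← act_mul, inv_mul_cancel, act_one]

lemma act_inv' (σ : Pt K A →* (R →ₐ[K] R)) (g : Pt K A) (r : R) : σ g (σ g⁻¹ r) = r := by
  rw [← act_mul, mul_inv_cancel, act_one]

/-- Rational actions on algebras. -/
def IsRatA (σ : Pt K A →* (R →ₐ[K] R)) : Prop := ∀ r, IsPol (fun g => σ g r)

lemma IsRatA.isRat {σ : Pt K A →* (R →ₐ[K] R)} (h : IsRatA σ) : IsRat (toRep σ) := h

/-- The rational vectors of an action on an algebra form a subalgebra. -/
def ratSub (σ : Pt K A →* (R →ₐ[K] R)) : Subalgebra K R where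
  carrier := {r | IsPol (fun g => σ g r)}
  mul_mem' ha hb := (IsPol.mul ha hb).congr fun _ => map_mul _ _ _
  add_mem' ha hb := (IsPol.add ha hb).congr fun _ => map_add _ _ _
  algebraMap_mem' c := (isPol_const (algebraMap K R c)).congr fun _ => AlgHom.commutes _ _

lemma isRatA_of_adjoin {σ : Pt K A →* (R →ₐ[K] R)} {S : Set R} (hS : Algebra.adjoin K S = ⊤)
    (h : ∀ s ∈ S, IsPol (fun g => σ g s)) : IsRatA σ := by
  have : (⊤ : Subalgebra K R) ≤ ratSub σ := by
    rw [← hS]
    exact Algebra.adjoin_le h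
  exact fun r => this trivial

/-- The fixed elements of a subgroup. -/
def fixA (σ : Pt K A →* (R →ₐ[K] R)) (N : Subgroup (Pt K A)) : Subalgebra K R where
  carrier := {r | ∀ g ∈ N, σ g r = r}
  mul_mem' ha hb g hg := by rw [map_mul, ha g hg, hb g hg]
  add_mem' ha hb g hg := by rw [map_add, ha g hg, hb g hg]
  algebraMap_mem' c g _ := AlgHom.commutes _ _

lemma mem_fixA {σ : Pt K A →* (R →ₐ[K] R)} {N : Subgroup (Pt K A)} {r : R} :
    r ∈ fixA σ N ↔ ∀ g ∈ N, σ g r = r := Iff.rfl

/-- Stable subalgebras. -/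
def IsStab (σ : Pt K A →* (R →ₐ[K] R)) (S : Set R) : Prop := ∀ g, ∀ s ∈ S, σ g s ∈ S

/-- Restriction of an action to a stable subalgebra. -/
noncomputable def resAct (σ : Pt K A →* (R →ₐ[K] R)) (S : Subalgebra K R) (hS : IsStab σ (S : Set R)) :
    Pt K A →* (S →ₐ[K] S) where
  toFun g := ((σ g).comp S.val).codRestrict S fun x => hS g x x.2
  map_one' := by ext x; exact act_one σ _
  map_mul' g h := by ext x; exact act_mul σ g h _

@[simp] lemma coe_resAct (σ : Pt K A →* (R →ₐ[K] R)) (S : Subalgebra K R) (hS : IsStab σ (S : Set R))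
    (g : Pt K A) (x : S) : (resAct σ S hS g x : R) = σ g x := rfl

lemma IsRatA.resAct {σ : Pt K A →* (R →ₐ[K] R)} (h : IsRatA σ) (S : Subalgebra K R)
    (hS : IsStab σ (S : Set R)) : IsRatA (resAct σ S hS) := fun x =>
  IsPol.of_injective S.val.toLinearMap Subtype.val_injective (h x)

/-- The action on a tensor product of algebras. -/
noncomputable def tenAct (σ : Pt K A →* (R →ₐ[K] R)) (τ : Pt K A →* (R' →ₐ[K] R')) :
    Pt K A →* (R ⊗[K] R' →ₐ[K] R ⊗[K] R') where
  toFun g := Algebra.TensorProduct.map (σ g) (τ g)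
  map_one' := by
    apply Algebra.TensorProduct.ext <;> ext x <;> simp
  map_mul' g h := by
    apply Algebra.TensorProduct.ext <;> ext x <;> simp

@[simp] lemma tenAct_tmul (σ : Pt K A →* (R →ₐ[K] R)) (τ : Pt K A →* (R' →ₐ[K] R')) (g : Pt K A) (r : R)
    (r' : R') : tenAct σ τ g (r ⊗ₜ[K] r') = σ g r ⊗ₜ[K] τ g r' := rfl

lemma IsRatA.tenAct {σ : Pt K A →* (R →ₐ[K] R)} (h : IsRatA σ) {τ : Pt K A →* (R' →ₐ[K] R')} (h' : IsRatA τ) :
    IsRatA (tenAct σ τ) := by
  intro x
  induction x using TensorProduct.induction_on with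
  | zero => exact (isPol_const 0).congr fun g => map_zero _
  | tmul a b => exact (h a).tmul (h' b)
  | add x y hx hy => exact (hx.add hy).congr fun g => map_add _ _ _

/-- The coefficientwise action on polynomials. -/
noncomputable def polyAct (σ : Pt K A →* (R →ₐ[K] R)) :
    Pt K A →* (Polynomial R →ₐ[K] Polynomial R) where
  toFun g := Polynomial.mapAlgHom (σ g)
  map_one' := by
    apply AlgHom.ext
    intro p
    change Polynomial.map _ p = p
    rw [map_one]
    exact Polynomial.map_id
  map_mul' g h := by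
    apply AlgHom.ext
    intro p
    change Polynomial.map _ p = Polynomial.map _ (Polynomial.map _ p)
    rw [Polynomial.map_map, map_mul]
    rfl

end AlgAct

end K497.Rat
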