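import Groth.Agent.AGF.K497.SemRed
import Groth.Agent.AGF.K497.Derived
import Groth.Agent.AGF.K496.Disc
import Groth.Agent.Sga3B.RG.PbNorm838

/-!
# Finite generation from the invariants of a maximal unipotent subgroup: reductive groups
-/

set_option autoImplicit false
set_option linter.unusedSectionVars false

universe u

open scoped TensorProduct LaurentPolynomial

namespace K497.RedCase

open Groth.Agent.Sga3B.RG Groth.Agent.Sga3B.RG.BcPt K497.Rat K497.Wgt
open Groth.Agent.Sga3B.Parab.BorelPts172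

section gen

variable {K : Type u} [Field K] {A : Type u} [CommRing A] [HopfAlgebra K A]
  {B : Type u} [CommRing B] [HopfAlgebra K B] {R : Type u} [CommRing R] [Algebra K R]

/-- Fixed elements of the restricted action. -/
lemma fixA_comp_comap (φ : A →ₐc[K] B) {σ : Pt K A →* (R →ₐ[K] R)} {U : Subgroup (Pt K A)}
    (hU : U ≤ (Pt.map φ).range) : fixA (σ.comp (Pt.map φ)) (U.comap (Pt.map φ)) = fixA σ U := by
  ext r
  constructor
  · intro h u hu
    obtain ⟨x, rfl⟩ := hU hu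
    exact h x hu
  · intro h x hx
    exact h _ hx

end gen

variable {K : Type u} [Field K] [IsAlgClosed K] {A : Type u} [CommRing A] [HopfAlgebra K A]
  [Algebra.FiniteType K A]

/-- A closed subgroup mapped into itself by a conjugation is mapped onto itself. -/
theorem conj_mem_of_forall {U : Subgroup (Pt K A)} (hcl : IsCl (U : Set (Pt K A))) {g : Pt K A}
    (h : ∀ x ∈ U, (MulAut.conj g)⁻¹ x ∈ U) {y : Pt K A} (hy : y ∈ U) : MulAut.conj g y ∈ U := by
  have hNoeth : IsNoetherianRing A := Algebra.FiniteType.isNoetherianRing K A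
  have hV : ∀ n : ℕ, IsCl {x : Pt K A | ((MulAut.conj g) ^ n) x ∈ U} := by
    intro n
    rw [← map_pow]
    exact (isReg_conj (g ^ n)).isCl_preimage hcl
  have hanti : ∀ n : ℕ, {x : Pt K A | ((MulAut.conj g) ^ (n + 1)) x ∈ U} ⊆ {x | ((MulAut.conj g) ^ n) x ∈ U} := by
    intro n x hx
    have h1 := h _ hx
    rwa [pow_succ', MulAut.mul_apply, MulAut.inv_apply_self] at h1
  obtain ⟨n, hn⟩ := monotone_stabilizes_iff_noetherian.2 hNoeth
    ⟨fun n : ℕ => vanIdeal {x : Pt K A | ((MulAut.conj g) ^ n) x ∈ U},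
      monotone_nat_of_le_succ fun n => vanIdeal_anti (hanti n)⟩
  have h1 := (hV n).ext (hV (n + 1)) (hn (n + 1) (Nat.le_succ n))
  have h2 : ((MulAut.conj g) ^ n)⁻¹ y ∈ {x : Pt K A | ((MulAut.conj g) ^ n) x ∈ U} := by
    rw [Set.mem_ofPred_eq, MulAut.apply_inv_self]
    exact hy
  rw [h1, Set.mem_ofPred_eq, pow_succ', MulAut.mul_apply, MulAut.apply_inv_self] at h2
  exact h2

/-- **Connected reductive groups**. -/
theorem finiteType_of_isRedPt [IsDomain A] (hred : IsRedPt K A) (thmA : VecGrp.ReductiveInvariantsFG K)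
    {B U : Subgroup (Pt K A)} (hB : IsBorelPt B) (hU : ∀ g, g ∈ U ↔ g ∈ B ∧ IsUnip g)
    {R : Type u} [CommRing R] [Algebra K R] {σ : Pt K A →* (R →ₐ[K] R)} (hσ : IsRatA σ)
    (hfg : (fixA σ U).FG) : Algebra.FiniteType K R := by
  obtain ⟨D, hDn, hDcl, hDconn, hDss, hDu⟩ := K497.Derived.exists_derived hred
  let φ := Bialgebra.Quotient.mkBialgHom (R := K) (vanIdeal (D : Set (Pt K A)))
  have hφ : Function.Surjective φ := Ideal.Quotient.mk_surjective
  have hrange : (Pt.map φ).range = D := range_quotMap_vanIdeal D hDcl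
  have hdom : IsDomain (A ⧸ vanIdeal (D : Set (Pt K A))) := (Ideal.Quotient.isDomain_iff_prime _).2 hDconn
  have hUD : U ≤ (Pt.map φ).range := fun g hg => by rw [hrange]; exact hDu g ((hU g).1 hg).2
  -- `U` is closed and connected
  obtain ⟨N, hNcl, hNconn, hN⟩ := K493.SolvU.exists_unip hB.toIsCCS
  have hUN : U = N := by ext g; rw [hU, hN]
  have hUccs : IsCCS U := K493.SolvU.isCCS_of_isUnip (hUN ▸ hNcl) (hUN ▸ hNconn) fun g hg => ((hU g).1 hg).2
  have hUm : (U.comap (Pt.map φ)).map (Pt.map φ) = U := by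
    rw [Subgroup.map_comap_eq, inf_eq_right]
    exact hUD
  have hU' : IsCCS (U.comap (Pt.map φ)) := (PbShape.isCCS_map_iff hφ).1 (by rwa [hUm])
  obtain ⟨B', hB', hUB'⟩ := hU'.exists_isBorelPt
  have hB'm : IsCCS (B'.map (Pt.map φ)) := (PbShape.isCCS_map_iff hφ).2 hB'.toIsCCS
  obtain ⟨g, hg⟩ := hB.exists_conj_le hB'm
  -- conjugation maps `U` into itself
  have h1 : ∀ x ∈ B', IsUnip x → MulAut.conj g (Pt.map φ x) ∈ U := by
    intro x hx hx'
    refine (hU _).2 ⟨hg ⟨Pt.map φ x, ⟨x, hx, rfl⟩, rfl⟩, ?_⟩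
    rw [MulAut.conj_apply]
    exact ((isUnip_map_iff hφ).2 hx').conj g
  have h2 : ∀ x ∈ U, (MulAut.conj g⁻¹)⁻¹ x ∈ U := by
    intro x hx
    obtain ⟨y, rfl⟩ := hUD hx
    rw [map_inv, inv_inv]
    exact h1 y (hUB' hx) ((isUnip_map_iff hφ).1 ((hU _).1 hx).2)
  have h3 : ∀ x, x ∈ U.comap (Pt.map φ) ↔ x ∈ B' ∧ IsUnip x := by
    intro x
    constructor
    · intro hx
      exact ⟨hUB' hx, (isUnip_map_iff hφ).1 ((hU _).1 hx).2⟩
    · rintro ⟨hx, hx'⟩
      have h4 := conj_mem_of_forall hUccs.isCl h2 (h1 x hx hx')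
      rw [map_inv, MulAut.inv_apply_self] at h4
      exact h4
  refine K497.SemRed.finiteType_of_isSsPt hDss thmA hB' h3 (isRatA_comp hσ φ) ?_
  rw [fixA_comp_comap φ hUD]
  exact hfg

/-- **Reductive groups**, not necessarily connected. -/
theorem finiteType_of_fixA [IsReduced A]
    (hred : IsRedPt K (A ⧸ vanIdeal ((idComp (⊤ : Subgroup (Pt K A)) : Subgroup (Pt K A)) : Set (Pt K A))))
    (thmA : VecGrp.ReductiveInvariantsFG K)
    {B U : Subgroup (Pt K A)} (hB : IsBorelPt B) (hU : ∀ g, g ∈ U ↔ g ∈ B ∧ IsUnip g)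
    {R : Type u} [CommRing R] [Algebra K R] {σ : Pt K A →* (R →ₐ[K] R)} (hσ : IsRatA σ)
    (hfg : (fixA σ U).FG) : Algebra.FiniteType K R := by
  let N : Subgroup (Pt K A) := idComp ⊤
  have hN : IsCl (N : Set (Pt K A)) := isCl_idComp _
  have hBN : B ≤ N := le_idComp hB.isConn le_top
  have hdom : IsDomain (A ⧸ vanIdeal (N : Set (Pt K A))) :=
    (Ideal.Quotient.isDomain_iff_prime _).2 (isConn_idComp _)
  let φ := Bialgebra.Quotient.mkBialgHom (R := K) (vanIdeal (N : Set (Pt K A)))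
  have hφ : Function.Surjective φ := Ideal.Quotient.mk_surjective
  have hrange : (Pt.map φ).range = N := range_quotMap_vanIdeal N hN
  have hm : (B.comap (Pt.map φ)).map (Pt.map φ) = B := by
    rw [Subgroup.map_comap_eq, hrange, inf_eq_right]
    exact hBN
  have hB' : IsBorelPt (B.comap (Pt.map φ)) := PbShape.isBorelPt_of_map hφ (by rwa [hm])
  have hUN : U ≤ (Pt.map φ).range := fun g hg => by rw [hrange]; exact hBN ((hU g).1 hg).1
  refine finiteType_of_isRedPt hred thmA hB' (U := U.comap (Pt.map φ)) (fun g => ?_) (isRatA_comp hσ φ) ?_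
  · rw [Subgroup.mem_comap, hU, Subgroup.mem_comap, isUnip_map_iff hφ]
  · rw [fixA_comp_comap φ hUN]
    exact hfg

end K497.RedCase
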