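import Groth.Agent.AGF.K497.Horo
import Groth.Agent.AGF.K497.NegWt
import Groth.Agent.AGF.K497.GM
import Groth.Agent.AGF.K496.GrossPt
import Groth.Agent.AGF.K501.RadPts
import Groth.Agent.Sga3B.RG.PbK2B703
import Groth.Agent.Sga3B.RG.Rel885
import Groth.Agent.AGF.K493.SolvU

/-!
# Finite generation from the invariants of a maximal unipotent subgroup: semisimple groups

* `invFG_of_isRedPt`: the hypothesis on invariants for connected reductive groups given by points;
* `isRedPt_of_isTorusSub`: tori are reductive;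
* `mem_Usub_iff_of_torus`: the unipotent elements of `P(λ)` when `Z(λ)` is a torus;
* `finiteType_of_isSsPt`: the case of a semisimple group.
-/

set_option autoImplicit false
set_option linter.unusedSectionVars false

universe u

open CategoryTheory MonoidalCategory CartesianMonoidalCategory MonObj GrpObj AlgebraicGeometry
open scoped TensorProduct LaurentPolynomial

namespace K497.SemRed

open Groth.Agent.Books.AffBridge Groth.Agent.Books.AffBridge2
open Groth.Agent.Sga3B.RG Groth.Agent.Sga3B.RG.BrPts Groth.Agent.Sga3B.RG.BcPt K497.Rat K497.Wgt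
open Groth.Agent.Sga3B.Parab.BorelPts172

variable {K : Type u} [Field K] [IsAlgClosed K] {A : Type u} [CommRing A] [HopfAlgebra K A]
  [Algebra.FiniteType K A] [IsDomain A]

/-- Connected reductive groups given by points. -/
theorem isReductiveGrp_of_isRedPt (h : IsRedPt K A) : VecGrp.IsReductiveGrp K (SpecOver K A) := by
  have h1 := BrRed2.isReductiveOver_iff.2 ⟨(inferInstance : IsDomain A), h⟩
  refine ⟨h1.1, h1.2.1, SpecOver K A, inferInstance, 𝟙 _, inferInstance, ?_, h1⟩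
  rw [Over.id_left]
  infer_instance

theorem invFG_of_isRedPt (h : IsRedPt K A) (thmA : VecGrp.ReductiveInvariantsFG K) : InvFG K A := by
  have h1 := BrRed2.isReductiveOver_iff.2 ⟨(inferInstance : IsDomain A), h⟩
  have h2 : IsAffine (SpecOver K A).left := h1.1
  have h3 : Smooth (SpecOver K A).hom := h1.2.1
  have h4 : IsMonHom (Iso.refl (SpecOver K A)).hom := inferInstanceAs (IsMonHom (𝟙 (SpecOver K A)))
  exact K497.GM.invFG_of_isReductiveGrp (Iso.refl (SpecOver K A)) (isReductiveGrp_of_isRedPt h) thmA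

theorem isRedPt_of_isTorusSub {T : Subgroup (Pt K A)} (hT : IsTorusSub T) :
    IsRedPt K (A ⧸ vanIdeal (T : Set (Pt K A))) := by
  refine (isRedSub_iff hT.isCl).1 fun N hN _ _ _ hu => ?_
  rw [eq_bot_iff]
  intro g hg
  exact TrigTorus.eq_one_of_isTorusSub hT (hN hg) (hu g hg)

theorem invFG_of_isTorusSub {T : Subgroup (Pt K A)} (hT : IsTorusSub T) (thmA : VecGrp.ReductiveInvariantsFG K) :
    InvFG K (A ⧸ vanIdeal (T : Set (Pt K A))) := by
  have hdom : IsDomain (A ⧸ vanIdeal (T : Set (Pt K A))) :=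
    (Ideal.Quotient.isDomain_iff_prime _).2 hT.isConn
  exact invFG_of_isRedPt (isRedPt_of_isTorusSub hT) thmA

/-- The unipotent elements of `P(λ)`. -/
theorem mem_Usub_iff_of_torus {lam : A →ₐc[K] K[T;T⁻¹]} (hP : IsCCS (Psub lam)) (hZ : IsTorusSub (Zsub lam))
    {g : Pt K A} : g ∈ Usub lam ↔ g ∈ Psub lam ∧ IsUnip g := by
  constructor
  · exact fun h => ⟨Usub_le_Psub lam h, isUnip_of_mem_Usub h⟩
  · rintro ⟨h1, h2⟩
    obtain ⟨N, -, -, hN⟩ := K493.SolvU.exists_unip hP
    have h3 := limPt_inv_mul_mem lam h1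
    have h4 := limPt_mem_Zsub lam h1
    have h5 : g * ((limPt lam g h1)⁻¹ * g)⁻¹ ∈ N := mul_mem ((hN _).2 ⟨h1, h2⟩)
      (inv_mem ((hN _).2 ⟨Usub_le_Psub lam h3, isUnip_of_mem_Usub h3⟩))
    have h6 : g * ((limPt lam g h1)⁻¹ * g)⁻¹ = limPt lam g h1 := by group
    rw [h6] at h5
    have h7 := TrigTorus.eq_one_of_isTorusSub hZ h4 ((hN _).1 h5).2
    exact (limPt_eq_one_iff lam h1).1 h7

/-- The functions invariant under the opposite maximal unipotent subgroup. -/
theorem fg_rInv_Usub {lam : A →ₐc[K] K[T;T⁻¹]} (hP : IsBorelPt (Psub lam)) (hZ : IsTorusSub (Zsub lam)) :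
    (K495.ObsPt.rInv ((Usub lam : Subgroup (Pt K A)) : Set (Pt K A)) : Subalgebra K A).FG := by
  have h1 := K496.GrossPt.fg_rInv hP
  have h2 : K496.GrossPt.rInv (Psub lam) =
      (K495.ObsPt.rInv ((Usub lam : Subgroup (Pt K A)) : Set (Pt K A)) : Subalgebra K A) := by
    ext f
    rw [K496.GrossPt.mem_rInv, K495.ObsPt.mem_rInv]
    constructor
    · exact fun h x n hn => h x n (Usub_le_Psub lam hn) (isUnip_of_mem_Usub hn)
    · exact fun h x n hn hn' => h x n ((mem_Usub_iff_of_torus hP.toIsCCS hZ).2 ⟨hn, hn'⟩)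
  rwa [h2] at h1

/-- **Semisimple groups**: `R` is finitely generated if `R^U` is. -/
theorem finiteType_of_isSsPt (hss : IsSsPt K A) (thmA : VecGrp.ReductiveInvariantsFG K)
    {B U : Subgroup (Pt K A)} (hB : IsBorelPt B) (hU : ∀ g, g ∈ U ↔ g ∈ B ∧ IsUnip g)
    {R : Type u} [CommRing R] [Algebra K R] {σ : Pt K A →* (R →ₐ[K] R)} (hσ : IsRatA σ)
    (hfg : (fixA σ U).FG) : Algebra.FiniteType K R := by
  obtain ⟨T, hT, hTB⟩ := hB.exists_isMaxTorusSub_le
  obtain ⟨-, mu, hmu, hBmu, hTmu⟩ := PbK2B703.k2B K A hss.1 B hB T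
    ⟨hT.1, hTB, fun S hS hle _ => hT.2 S hS hle⟩
  have hP' : IsBorelPt (Psub (invCoch mu)) := PbKB703.kB K A hss.1 T hT (invCoch mu)
    (K501.RadPts.cochIn_invCoch hmu) (by rw [K501.RadPts.Zsub_invCoch]; exact hTmu.ge)
  have hZ : IsTorusSub (Zsub mu) := hTmu ▸ hT.1
  have hZ' : IsTorusSub (Zsub (invCoch mu)) := by rw [K501.RadPts.Zsub_invCoch]; exact hZ
  have hUmu : U = Usub mu := by
    ext g
    rw [hU, hBmu, mem_Usub_iff_of_torus (by rw [← hBmu]; exact hB.toIsCCS) hZ]
  rw [hUmu] at hfg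
  exact finiteType_of_fg_fixA (geomRed_of_invFG (invFG_of_isRedPt hss.1 thmA)) (invFG_of_isTorusSub hZ thmA)
    (fg_rInv_Usub hP' hZ') hσ (fun v hv => Fil_neg hss hσ.isRat v hv) hfg

end K497.SemRed
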