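import Groth.Agent.AGF.K497.PowLift
import Groth.Agent.AGF.K495.ObsPt
import Mathlib.RingTheory.FiniteStability

/-!
# The transfer principle

`A` a finitely generated reduced Hopf algebra over the algebraically closed field `K`, `N` a subgroup of `Pt K A`,
`rInv N` the functions right-invariant under `N`, `R` a rational algebra.  Evaluation at `1` is an isomorphism
`(rInv N ⊗ R)^G ≅ R^N`; consequences for finite generation.
-/

set_option autoImplicit false

universe u w w'

open TensorProduct Groth.Agent.Sga3B.RG Polynomial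

namespace K497.Rat

section

variable {K : Type u} [Field K] {A : Type u} [CommRing A] [HopfAlgebra K A]
variable [IsAlgClosed K] [Algebra.FiniteType K A] [IsReduced A]
variable {R : Type w} [CommRing R] [Algebra K R]

lemma rInv_stab (H : Set (Pt K A)) : IsStab (lTrHom K A) ((K495.ObsPt.rInv H : Subalgebra K A) : Set A) :=
  fun g _ ha => K495.ObsPt.lTr_mem_rInv ha g

/-- The action on `rInv H ⊗ R`. -/
noncomputable def trAct (H : Set (Pt K A)) (σ : Pt K A →* (R →ₐ[K] R)) :
    Pt K A →* ((K495.ObsPt.rInv H) ⊗[K] R →ₐ[K] (K495.ObsPt.rInv H) ⊗[K] R) :=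
  tenAct (resAct (lTrHom K A) (K495.ObsPt.rInv H) (rInv_stab H)) σ

lemma isRatA_trAct (H : Set (Pt K A)) {σ : Pt K A →* (R →ₐ[K] R)} (hσ : IsRatA σ) : IsRatA (trAct H σ) :=
  (isRatA_lTrHom.resAct _ _).tenAct hσ

/-- Evaluation of elements of `rInv H ⊗ R`. -/
noncomputable def evI (H : Set (Pt K A)) (g : Pt K A) : (K495.ObsPt.rInv H) ⊗[K] R →ₐ[K] R :=
  (evA g).comp (Algebra.TensorProduct.map (K495.ObsPt.rInv H).val (AlgHom.id K R))

omit [IsAlgClosed K] [Algebra.FiniteType K A] [IsReduced A] in
@[simp] lemma evI_tmul (H : Set (Pt K A)) (g : Pt K A) (a : K495.ObsPt.rInv H) (r : R) :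
    evI H g (a ⊗ₜ[K] r) = g (a : A) • r := by
  rw [evI, AlgHom.comp_apply, Algebra.TensorProduct.map_tmul, evA_apply, ev_tmul]
  rfl

omit [IsAlgClosed K] [Algebra.FiniteType K A] [IsReduced A] in
lemma map_val_injective (S : Subalgebra K A) :
    Function.Injective (Algebra.TensorProduct.map S.val (AlgHom.id K R)) := by
  have := Module.Flat.rTensor_preserves_injective_linearMap (M := R) S.val.toLinearMap Subtype.val_injective
  exact this

lemma evI_ext {H : Set (Pt K A)} {t t' : (K495.ObsPt.rInv H) ⊗[K] R} (h : ∀ g, evI H g t = evI H g t') : t = t' := by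
  apply map_val_injective (K495.ObsPt.rInv H)
  apply eq_of_ev (K := K)
  intro g
  rw [← evA_apply, ← evA_apply]
  exact h g

lemma evI_trAct (H : Set (Pt K A)) (σ : Pt K A →* (R →ₐ[K] R)) (g h : Pt K A) (t : (K495.ObsPt.rInv H) ⊗[K] R) :
    evI H h (trAct H σ g t) = σ g (evI H (g⁻¹ * h) t) := by
  induction t using TensorProduct.induction_on with
  | zero => simp
  | tmul a r =>
    rw [trAct, tenAct_tmul, evI_tmul, evI_tmul, map_smul, coe_resAct]
    congr 1
    exact lTr_apply_pt g h a
  | add x y hx hy => rw [map_add, map_add, map_add, map_add, hx, hy]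

omit [IsAlgClosed K] [Algebra.FiniteType K A] [IsReduced A] in
/-- A polynomial function which is right-invariant under `H` is given by an element of `rInv H ⊗ R`. -/
lemma exists_evI {H : Set (Pt K A)} {F : Pt K A → R} (hF : IsPol F) (hinv : ∀ g, ∀ h ∈ H, F (g * h) = F g) :
    ∃ t : (K495.ObsPt.rInv H) ⊗[K] R, ∀ g, F g = evI H g t := by
  obtain ⟨t, ht⟩ := hF
  obtain ⟨I, e, b, he⟩ := exists_coord K A R
  have hmem : ∀ j, e t j ∈ K495.ObsPt.rInv H := by
    intro j x h hh
    rw [he, he, ← ht, ← ht, hinv x h hh]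
  refine ⟨∑ j ∈ (e t).support, (⟨e t j, hmem j⟩ : K495.ObsPt.rInv H) ⊗ₜ[K] b j, fun g => ?_⟩
  rw [ht, map_sum]
  simp only [evI_tmul]
  apply b.repr.injective
  ext k
  rw [map_sum, Finsupp.finsetSum_apply, ← he]
  simp only [map_smul, Module.Basis.repr_self, Finsupp.smul_single, smul_eq_mul, _root_.mul_one]
  rw [Finset.sum_eq_single k]
  · rw [Finsupp.single_eq_same]
  · intro j _ hj
    rw [Finsupp.single_eq_of_ne hj.symm]
  · intro hk
    rw [Finsupp.notMem_support_iff.1 hk, Pt.apply_zero, Finsupp.single_zero, Finsupp.zero_apply]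

/-- Evaluation at `1` maps the invariants of `rInv N ⊗ R` onto `R^N`. -/
theorem map_evI_fixA (N : Subgroup (Pt K A)) {σ : Pt K A →* (R →ₐ[K] R)} (hσ : IsRatA σ) :
    (fixA (trAct (N : Set (Pt K A)) σ) ⊤).map (evI (N : Set (Pt K A)) 1) = fixA σ N := by
  apply le_antisymm
  · rintro _ ⟨t, ht, rfl⟩ m hm
    have h1 := evI_trAct (N : Set (Pt K A)) σ m m t
    rw [inv_mul_cancel, ht m trivial] at h1
    change σ m (evI (N : Set (Pt K A)) 1 t) = evI (N : Set (Pt K A)) 1 t
    rw [← h1]
    -- right invariance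
    clear h1 ht
    induction t using TensorProduct.induction_on with
    | zero => rw [map_zero, map_zero]
    | tmul a r =>
      rw [evI_tmul, evI_tmul]
      have := a.2 1 m hm
      rw [_root_.one_mul] at this
      rw [this]
    | add x y hx hy => rw [map_add, map_add, hx, hy]
  · intro x hx
    obtain ⟨t, ht⟩ := exists_evI (H := (N : Set (Pt K A))) (hσ x) (fun g h hh => by
      rw [act_mul, hx h hh])
    replace ht : ∀ g, σ g x = evI (N : Set (Pt K A)) g t := ht
    refine ⟨t, fun γ _ => ?_, ?_⟩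
    · apply evI_ext
      intro g
      rw [evI_trAct, ← ht, ← ht, ← act_mul, mul_inv_cancel_left]
    · change evI (N : Set (Pt K A)) 1 t = x
      rw [← ht, act_one]

end

section

variable {K : Type u} [Field K] {A : Type u} [CommRing A] [HopfAlgebra K A]
variable [IsAlgClosed K] [Algebra.FiniteType K A] [IsReduced A]
variable {R : Type u} [CommRing R] [Algebra K R]

/-- **Transfer**: if the functions invariant under `N` are finitely generated then so are the `N`-invariants of every
rational action on a finitely generated algebra. -/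
theorem fg_fixA_of_rInv (h : InvFG K A) {N : Subgroup (Pt K A)}
    (hN : (K495.ObsPt.rInv (N : Set (Pt K A)) : Subalgebra K A).FG) [hR : Algebra.FiniteType K R]
    {σ : Pt K A →* (R →ₐ[K] R)} (hσ : IsRatA σ) : (fixA σ N).FG := by
  rw [← map_evI_fixA N hσ]
  have h1 : Algebra.FiniteType K (K495.ObsPt.rInv (N : Set (Pt K A)) : Subalgebra K A) :=
    (Subalgebra.fg_iff_finiteType _).1 hN
  have h3 : Algebra.FiniteType (K495.ObsPt.rInv (N : Set (Pt K A)) : Subalgebra K A)
    ((K495.ObsPt.rInv (N : Set (Pt K A)) : Subalgebra K A) ⊗[K] R) := inferInstance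
  have h2 : Algebra.FiniteType K ((K495.ObsPt.rInv (N : Set (Pt K A)) : Subalgebra K A) ⊗[K] R) :=
    Algebra.FiniteType.trans h1 h3
  exact (h _ (trAct (N : Set (Pt K A)) σ) (isRatA_trAct _ hσ)).map _

end

end K497.Rat
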