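import Groth.Agent.AGF.K497.Transfer
import Groth.Agent.Sga3B.RG.TopVec

/-!
# Weights of a cocharacter on rational representations of any dimension

* `IsGm τ`: the representation `τ` of `Kˣ` is a (possibly infinite) sum of weight spaces; `IsGm.P` the projections;
* `isGm_cochPt`: rational representations restricted to a cocharacter;
* how `P(λ)`, `U(λ)` and their opposites move the weights.
-/

set_option autoImplicit false

universe u w w'

open TensorProduct Groth.Agent.Sga3B.RG K497.Rat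
open scoped LaurentPolynomial

namespace K497.Wgt

section Gm

variable {K : Type u} [Field K] {M : Type w} [AddCommGroup M] [Module K M]
variable {N : Type w'} [AddCommGroup N] [Module K N]
variable {τ : Kˣ →* (M →ₗ[K] M)} {τ' : Kˣ →* (N →ₗ[K] N)}

/-- Rational representations of the multiplicative group. -/
def IsGm (τ : Kˣ →* (M →ₗ[K] M)) : Prop :=
  ∀ m, ∃ f : ℤ →₀ M, ∀ t : Kˣ, τ t m = f.sum fun n v => ((t ^ n : Kˣ) : K) • v

/-- The weight components of a vector. -/
noncomputable def IsGm.dec (h : IsGm τ) (m : M) : ℤ →₀ M := (h m).choose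

lemma IsGm.dec_spec (h : IsGm τ) (m : M) (t : Kˣ) :
    τ t m = (h.dec m).sum fun n v => ((t ^ n : Kˣ) : K) • v := (h m).choose_spec t

lemma finsupp_eq_zero [Infinite K] {f : ℤ →₀ M} (h : ∀ t : Kˣ, (f.sum fun n v => ((t ^ n : Kˣ) : K) • v) = 0) :
    f = 0 := by
  ext n
  by_cases hn : n ∈ f.support
  · exact WtDec.vec_eq_zero (χ := gmChar K) gmChar_injective f.support f (fun t => h t) n hn
  · rw [Finsupp.notMem_support_iff.1 hn, Finsupp.zero_apply]

lemma finsupp_sum_sub (f g : ℤ →₀ M) (t : Kˣ) :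
    ((f - g).sum fun n v => ((t ^ n : Kˣ) : K) • v) =
      (f.sum fun n v => ((t ^ n : Kˣ) : K) • v) - (g.sum fun n v => ((t ^ n : Kˣ) : K) • v) :=
  Finsupp.sum_sub_index fun _ _ _ => smul_sub _ _ _

variable [Infinite K]

lemma IsGm.dec_unique (h : IsGm τ) {m : M} {f : ℤ →₀ M}
    (hf : ∀ t : Kˣ, τ t m = f.sum fun n v => ((t ^ n : Kˣ) : K) • v) : h.dec m = f := by
  rw [← sub_eq_zero]
  apply finsupp_eq_zero (K := K)
  intro t
  rw [finsupp_sum_sub, ← h.dec_spec, ← hf, sub_self]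

/-- The weight projections. -/
noncomputable def IsGm.P (h : IsGm τ) (n : ℤ) : M →ₗ[K] M where
  toFun m := h.dec m n
  map_add' x y := by
    rw [h.dec_unique (m := x + y) (f := h.dec x + h.dec y), Finsupp.add_apply]
    intro t
    rw [map_add, h.dec_spec, h.dec_spec, Finsupp.sum_add_index' (fun _ => smul_zero _) (fun _ _ _ => smul_add _ _ _)]
  map_smul' c x := by
    rw [h.dec_unique (m := c • x) (f := c • h.dec x), Finsupp.smul_apply, RingHom.id_apply]
    intro t
    rw [map_smul, h.dec_spec, Finsupp.sum_smul_index' (fun _ => smul_zero _), Finsupp.smul_sum]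
    exact Finsupp.sum_congr fun n _ => smul_comm _ _ _

lemma IsGm.P_apply (h : IsGm τ) (n : ℤ) (m : M) : h.P n m = h.dec m n := rfl

lemma IsGm.tau_eq (h : IsGm τ) (m : M) (S : Finset ℤ) (hS : ∀ n ∉ S, h.P n m = 0) (t : Kˣ) :
    τ t m = ∑ n ∈ S, ((t ^ n : Kˣ) : K) • h.P n m := by
  rw [h.dec_spec, Finsupp.sum_of_support_subset _ (s := S)]
  · rfl
  · intro n hn
    by_contra hn'
    exact (Finsupp.mem_support_iff.1 hn) (hS n hn')
  · intro n _
    exact smul_zero _

lemma IsGm.tau_eq' (h : IsGm τ) (m : M) (t : Kˣ) :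
    τ t m = ∑ n ∈ (h.dec m).support, ((t ^ n : Kˣ) : K) • h.P n m :=
  h.tau_eq m _ (fun _ hn => Finsupp.notMem_support_iff.1 hn) t

lemma IsGm.sum_P (h : IsGm τ) (m : M) (S : Finset ℤ) (hS : ∀ n ∉ S, h.P n m = 0) :
    ∑ n ∈ S, h.P n m = m := by
  have := h.tau_eq m S hS 1
  rw [map_one] at this
  simpa using this.symm

lemma IsGm.sum_P' (h : IsGm τ) (m : M) : ∑ n ∈ (h.dec m).support, h.P n m = m :=
  h.sum_P m _ fun _ hn => Finsupp.notMem_support_iff.1 hn

lemma IsGm.P_eq_of (h : IsGm τ) (m : M) (S : Finset ℤ) (f : ℤ → M)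
    (hf : ∀ t : Kˣ, τ t m = ∑ n ∈ S, ((t ^ n : Kˣ) : K) • f n) (n : ℤ) :
    h.P n m = if n ∈ S then f n else 0 := by
  classical
  rw [h.P_apply, h.dec_unique (m := m) (f := ∑ i ∈ S, Finsupp.single i (f i))]
  · rw [Finsupp.finsetSum_apply]
    split_ifs with hn
    · rw [Finset.sum_eq_single n]
      · rw [Finsupp.single_eq_same]
      · intro i _ hi
        rw [Finsupp.single_eq_of_ne hi.symm]
      · exact fun h => absurd hn h
    · refine Finset.sum_eq_zero fun i hi => ?_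
      rw [Finsupp.single_eq_of_ne]
      rintro rfl
      exact hn hi
  · intro t
    rw [hf, ← Finsupp.sum_finsetSum_index (fun _ => smul_zero _) (fun _ _ _ => smul_add _ _ _)]
    refine Finset.sum_congr rfl fun i _ => ?_
    exact (Finsupp.sum_single_index (h := fun n v => ((t ^ n : Kˣ) : K) • v) (smul_zero _)).symm

lemma IsGm.map_P (h : IsGm τ) (h' : IsGm τ') (φ : M →ₗ[K] N) (hφ : ∀ t m, φ (τ t m) = τ' t (φ m)) (n : ℤ) (m : M) :
    φ (h.P n m) = h'.P n (φ m) := by
  rw [h'.P_eq_of (φ m) (h.dec m).support (fun n => φ (h.P n m))]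
  · split_ifs with hn
    · rfl
    · rw [h.P_apply, Finsupp.notMem_support_iff.1 hn, map_zero]
  · intro t
    rw [← hφ, h.tau_eq', map_sum]
    exact Finset.sum_congr rfl fun i _ => map_smul _ _ _

lemma IsGm.P_tau (h : IsGm τ) (n : ℤ) (t : Kˣ) (m : M) : h.P n (τ t m) = τ t (h.P n m) :=
  (h.map_P h (τ t) (fun s m => by
    rw [← Module.End.mul_apply, ← Module.End.mul_apply, ← map_mul, ← map_mul, mul_comm]) n m).symm

lemma IsGm.tau_P (h : IsGm τ) (n : ℤ) (t : Kˣ) (m : M) : τ t (h.P n m) = ((t ^ n : Kˣ) : K) • h.P n m := by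
  classical
  have key : ∀ s : Kˣ, τ s (τ t m) = ∑ i ∈ (h.dec m).support, ((s ^ i : Kˣ) : K) • (((t ^ i : Kˣ) : K) • h.P i m) := by
    intro s
    rw [← Module.End.mul_apply, ← map_mul, h.tau_eq']
    refine Finset.sum_congr rfl fun i _ => ?_
    rw [smul_smul, ← Units.val_mul, ← mul_zpow]
  have h1 := h.P_eq_of (τ t m) _ _ key n
  rw [← h.P_tau, h1]
  split_ifs with hn
  · rfl
  · rw [h.P_apply, Finsupp.notMem_support_iff.1 hn, smul_zero]

/-- Weight vectors. -/
lemma IsGm.P_of_wt (h : IsGm τ) {n : ℤ} {m : M} (hm : ∀ t : Kˣ, τ t m = ((t ^ n : Kˣ) : K) • m) (i : ℤ) :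
    h.P i m = if i = n then m else 0 := by
  rw [h.P_eq_of m {n} (fun _ => m)]
  · simp only [Finset.mem_singleton]
  · intro t
    rw [Finset.sum_singleton, hm]

lemma IsGm.P_self_of_wt (h : IsGm τ) {n : ℤ} {m : M} (hm : ∀ t : Kˣ, τ t m = ((t ^ n : Kˣ) : K) • m) :
    h.P n m = m := by
  rw [h.P_of_wt hm, if_pos rfl]

lemma IsGm.P_ne_of_wt (h : IsGm τ) {n : ℤ} {m : M} (hm : ∀ t : Kˣ, τ t m = ((t ^ n : Kˣ) : K) • m) {i : ℤ}
    (hi : i ≠ n) : h.P i m = 0 := by
  rw [h.P_of_wt hm, if_neg hi]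

lemma IsGm.P_P (h : IsGm τ) (n i : ℤ) (m : M) : h.P i (h.P n m) = if i = n then h.P n m else 0 :=
  h.P_of_wt (fun t => h.tau_P n t m) i

end Gm

section mul

variable {K : Type u} [Field K] [Infinite K] {R : Type w} [CommRing R] [Algebra K R]
variable {τ : Kˣ →* (R →ₗ[K] R)}

lemma IsGm.P_mul (h : IsGm τ) (hm : ∀ t x y, τ t (x * y) = τ t x * τ t y) (x y : R) (n : ℤ) :
    h.P n (x * y) = ∑ i ∈ (h.dec x).support, h.P i x * h.P (n - i) y := by
  classical
  -- a large finite set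
  let S : Finset ℤ := (h.dec x).support.biUnion fun i => (h.dec y).support.image fun j => i + j
  have key : ∀ t : Kˣ, τ t (x * y) =
      ∑ n ∈ S, ((t ^ n : Kˣ) : K) • ∑ i ∈ (h.dec x).support, h.P i x * h.P (n - i) y := by
    intro t
    rw [hm, h.tau_eq' x, Finset.sum_mul]
    simp_rw [Finset.smul_sum]
    rw [Finset.sum_comm]
    refine Finset.sum_congr rfl fun i hi => ?_
    rw [h.tau_eq y ((S.image fun n => n - i)), Finset.mul_sum, Finset.sum_image]
    · refine Finset.sum_congr rfl fun n _ => ?_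
      rw [smul_mul_smul_comm, ← Units.val_mul, ← zpow_add, add_sub_cancel]
    · intro a _ b _ hab
      simpa using hab
    · intro j hj
      by_contra hne
      apply hj
      refine Finset.mem_image.2 ⟨i + j, Finset.mem_biUnion.2 ⟨i, hi, Finset.mem_image.2 ⟨j, ?_, rfl⟩⟩, by ring⟩
      exact Finsupp.mem_support_iff.2 hne
  rw [h.P_eq_of (x * y) S _ key n]
  split_ifs with hn
  · rfl
  · symm
    refine Finset.sum_eq_zero fun i hi => ?_
    have : h.P (n - i) y = 0 := by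
      by_contra hne
      apply hn
      exact Finset.mem_biUnion.2 ⟨i, hi, Finset.mem_image.2 ⟨n - i, Finsupp.mem_support_iff.2 hne, by ring⟩⟩
    rw [this, mul_zero]

/-- Products of elements with bounded weights. -/
lemma IsGm.P_mul_eq_zero (h : IsGm τ) (hm : ∀ t x y, τ t (x * y) = τ t x * τ t y) {x y : R} {a b : ℤ}
    (hx : ∀ i, a < i → h.P i x = 0) (hy : ∀ i, b < i → h.P i y = 0) {n : ℤ} (hn : a + b < n) :
    h.P n (x * y) = 0 := by
  rw [h.P_mul hm]
  refine Finset.sum_eq_zero fun i _ => ?_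
  by_cases hi : a < i
  · rw [hx i hi, zero_mul]
  · rw [hy (n - i) (by lia), mul_zero]

lemma IsGm.P_mul_top (h : IsGm τ) (hm : ∀ t x y, τ t (x * y) = τ t x * τ t y) {x y : R} {a b : ℤ}
    (hx : ∀ i, a < i → h.P i x = 0) (hy : ∀ i, b < i → h.P i y = 0) :
    h.P (a + b) (x * y) = h.P a x * h.P b y := by
  rw [h.P_mul hm]
  by_cases ha : a ∈ (h.dec x).support
  · rw [Finset.sum_eq_single a]
    · rw [add_sub_cancel_left]
    · intro i _ hia
      rcases lt_or_gt_of_ne hia with hi | hi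
      · rw [hy (a + b - i) (by lia), mul_zero]
      · rw [hx i hi, zero_mul]
    · exact fun h => absurd ha h
  · have h0 : h.P a x = 0 := Finsupp.notMem_support_iff.1 ha
    rw [h0, zero_mul]
    refine Finset.sum_eq_zero fun i hi => ?_
    have hia : i ≠ a := fun h => ha (h ▸ hi)
    rcases lt_or_gt_of_ne hia with hi | hi
    · rw [hy (a + b - i) (by lia), mul_zero]
    · rw [hx i hi, zero_mul]

end mul

section Coch

variable {K : Type u} [Field K] {A : Type u} [CommRing A] [HopfAlgebra K A]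
variable {M : Type w} [AddCommGroup M] [Module K M] {ρ : Representation K (Pt K A) M}

/-- The representation of `Kˣ` through a cocharacter. -/
noncomputable abbrev cop (lam : A →ₐc[K] K[T;T⁻¹]) (ρ : Representation K (Pt K A) M) : Kˣ →* (M →ₗ[K] M) :=
  ρ.comp (cochPt lam)

lemma isGm_cop (hρ : IsRat ρ) (lam : A →ₐc[K] K[T;T⁻¹]) : IsGm (cop lam ρ) := by
  intro m
  obtain ⟨T, hT⟩ := hρ m
  suffices H : ∀ T : A ⊗[K] M, ∃ f : ℤ →₀ M, ∀ t : Kˣ, ev M (cochPt lam t) T =
      f.sum fun n v => ((t ^ n : Kˣ) : K) • v by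
    obtain ⟨f, hf⟩ := H T
    exact ⟨f, fun t => (hT _).trans (hf t)⟩
  intro T
  induction T using TensorProduct.induction_on with
  | zero => exact ⟨0, fun t => by rw [map_zero, Finsupp.sum_zero_index]⟩
  | tmul a v =>
    refine ⟨(lam a).coeff.mapRange (fun c => c • v) (zero_smul K v), fun t => ?_⟩
    rw [ev_tmul, cochPt_apply, gmPt_apply, Finsupp.sum_mapRange_index (fun _ => smul_zero _),
      Finsupp.sum, Finset.sum_smul, Finsupp.sum]
    refine Finset.sum_congr rfl fun n _ => ?_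
    rw [gmChar_apply, smul_smul, mul_comm]
  | add x y hx hy =>
    obtain ⟨f, hf⟩ := hx
    obtain ⟨g, hg⟩ := hy
    exact ⟨f + g, fun t => by
      rw [map_add, hf, hg, Finsupp.sum_add_index' (fun _ => smul_zero _) (fun _ _ _ => smul_add _ _ _)]⟩

variable [Infinite K] {lam : A →ₐc[K] K[T;T⁻¹]}

lemma conj_apply_eq (hρ : IsRat ρ) {m : ℤ} {v : M} (hv : v ∈ cwt lam ρ m) (g : Pt K A) (S : Finset ℤ)
    (hS : ∀ n ∉ S, (isGm_cop hρ lam).P n (ρ g v) = 0) (t : Kˣ) :
    ρ (cochPt lam t * g * (cochPt lam t)⁻¹) v =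
      ∑ n ∈ S, ((t ^ (n - m) : Kˣ) : K) • (isGm_cop hρ lam).P n (ρ g v) := by
  rw [map_mul, map_mul, ← map_inv (cochPt lam) t]
  have h1 : ρ (cochPt lam t⁻¹) v = ((t⁻¹ ^ m : Kˣ) : K) • v := hv t⁻¹
  rw [Module.End.mul_apply, h1, map_smul, Module.End.mul_apply]
  have h2 := (isGm_cop hρ lam).tau_eq (ρ g v) S hS t
  rw [MonoidHom.comp_apply] at h2
  rw [h2, Finset.smul_sum]
  refine Finset.sum_congr rfl fun n _ => ?_
  rw [smul_smul, ← Units.val_mul]
  congr 3
  rw [inv_zpow', ← zpow_add]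
  congr 1
  ring

/-- `P(λ)` raises weights. -/
theorem P_eq_zero_of_mem_Psub (hρ : IsRat ρ) {m : ℤ} {v : M} (hv : v ∈ cwt lam ρ m) {g : Pt K A}
    (hg : g ∈ Psub lam) {n : ℤ} (hn : n < m) : (isGm_cop hρ lam).P n (ρ g v) = 0 := by
  classical
  rw [← Module.forall_dual_apply_eq_zero_iff K]
  intro f
  obtain ⟨a, ha⟩ := hρ.isAlg f v
  obtain ⟨p, hp⟩ := hg a
  set S := ((isGm_cop hρ lam).dec (ρ g v)).support with hS
  have hS' : ∀ n ∉ S, (isGm_cop hρ lam).P n (ρ g v) = 0 := fun n hn => Finsupp.notMem_support_iff.1 hn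
  have := (laurent_eq_polynomial (S.image (fun n => n - m)) (fun j => f ((isGm_cop hρ lam).P (j + m) (ρ g v)))
    (fun j hj => ?_) p (fun t => ?_)).1 (n - m) (by lia)
  · simpa using this
  · rw [hS' (j + m) (fun h => hj (Finset.mem_image.mpr ⟨_, h, by ring⟩)), map_zero]
  · rw [← hp, ← ha, conj_apply_eq hρ hv g S hS', map_sum, Finset.sum_image (by intro a _ b _ hab; simpa using hab)]
    refine Finset.sum_congr rfl fun n _ => ?_
    rw [map_smul, smul_eq_mul, mul_comm, sub_add_cancel]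

/-- `U(λ)` fixes weight vectors modulo larger weights. -/
theorem P_eq_self_of_mem_Usub (hρ : IsRat ρ) {m : ℤ} {v : M} (hv : v ∈ cwt lam ρ m) {g : Pt K A}
    (hg : g ∈ Usub lam) : (isGm_cop hρ lam).P m (ρ g v) = v := by
  classical
  rw [← sub_eq_zero, ← Module.forall_dual_apply_eq_zero_iff K]
  intro f
  rw [map_sub, sub_eq_zero]
  obtain ⟨a, ha⟩ := hρ.isAlg f v
  obtain ⟨p, hp0, hp⟩ := hg a
  set S := ((isGm_cop hρ lam).dec (ρ g v)).support with hS
  have hS' : ∀ n ∉ S, (isGm_cop hρ lam).P n (ρ g v) = 0 := fun n hn => Finsupp.notMem_support_iff.1 hn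
  have := (laurent_eq_polynomial (S.image (fun n => n - m)) (fun j => f ((isGm_cop hρ lam).P (j + m) (ρ g v)))
    (fun j hj => ?_) p (fun t => ?_)).2
  · rw [zero_add, hp0, ← Pt.one_apply, ← ha, map_one] at this
    exact this
  · rw [hS' (j + m) (fun h => hj (Finset.mem_image.mpr ⟨_, h, by ring⟩)), map_zero]
  · rw [← hp, ← ha, conj_apply_eq hρ hv g S hS', map_sum, Finset.sum_image (by intro a _ b _ hab; simpa using hab)]
    refine Finset.sum_congr rfl fun n _ => ?_
    rw [map_smul, smul_eq_mul, mul_comm, sub_add_cancel]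

lemma P_invCoch (hρ : IsRat ρ) (n : ℤ) (v : M) :
    (isGm_cop hρ (invCoch lam)).P n v = (isGm_cop hρ lam).P (-n) v := by
  classical
  rw [(isGm_cop hρ (invCoch lam)).P_eq_of v ((((isGm_cop hρ lam).dec v).support).image fun n => -n)
    (fun n => (isGm_cop hρ lam).P (-n) v)]
  · split_ifs with hn
    · rfl
    · symm
      refine Finsupp.notMem_support_iff.1 fun h => hn ?_
      exact Finset.mem_image.2 ⟨-n, h, neg_neg n⟩
  · intro t
    rw [Finset.sum_image (by intro a _ b _ hab; simpa using hab), MonoidHom.comp_apply, cochPt_invCoch, ← map_inv]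
    have := (isGm_cop hρ lam).tau_eq' v t⁻¹
    rw [MonoidHom.comp_apply] at this
    rw [this]
    refine Finset.sum_congr rfl fun n _ => ?_
    rw [neg_neg, inv_zpow']

/-- `P(-λ)` lowers weights. -/
theorem P_eq_zero_of_mem_Psub_inv (hρ : IsRat ρ) {m : ℤ} {v : M} (hv : v ∈ cwt lam ρ m) {g : Pt K A}
    (hg : g ∈ Psub (invCoch lam)) {n : ℤ} (hn : m < n) : (isGm_cop hρ lam).P n (ρ g v) = 0 := by
  have := P_eq_zero_of_mem_Psub (lam := invCoch lam) hρ (m := -m) (v := v)
    (by rw [mem_cwt_invCoch, neg_neg]; exact hv) hg (n := -n) (by lia)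
  rwa [P_invCoch hρ, neg_neg] at this

theorem P_eq_self_of_mem_Usub_inv (hρ : IsRat ρ) {m : ℤ} {v : M} (hv : v ∈ cwt lam ρ m) {g : Pt K A}
    (hg : g ∈ Usub (invCoch lam)) : (isGm_cop hρ lam).P m (ρ g v) = v := by
  have := P_eq_self_of_mem_Usub (lam := invCoch lam) hρ (m := -m) (v := v)
    (by rw [mem_cwt_invCoch, neg_neg]; exact hv) hg
  rwa [P_invCoch hρ, neg_neg] at this

lemma P_mem_cwt (hρ : IsRat ρ) (n : ℤ) (v : M) : (isGm_cop hρ lam).P n v ∈ cwt lam ρ n :=
  fun t => (isGm_cop hρ lam).tau_P n t v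

/-- `Z(λ)` commutes with the projections. -/
lemma P_Zsub (hρ : IsRat ρ) {z : Pt K A} (hz : z ∈ Zsub lam) (n : ℤ) (v : M) :
    (isGm_cop hρ lam).P n (ρ z v) = ρ z ((isGm_cop hρ lam).P n v) := by
  refine ((isGm_cop hρ lam).map_P (isGm_cop hρ lam) (ρ z) (fun t m => ?_) n v).symm
  rw [MonoidHom.comp_apply, ← Module.End.mul_apply, ← Module.End.mul_apply, ← map_mul, ← map_mul, mem_Zsub.1 hz t]

omit [Infinite K] in
lemma Zsub_mem_cwt {n : ℤ} {v : M} (hv : v ∈ cwt lam ρ n) {z : Pt K A} (hz : z ∈ Zsub lam) :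
    ρ z v ∈ cwt lam ρ n := by
  intro t
  rw [MonoidHom.comp_apply, ← Module.End.mul_apply, ← map_mul, mem_Zsub.1 hz t, map_mul, Module.End.mul_apply]
  have := hv t
  rw [MonoidHom.comp_apply] at this
  rw [this, map_smul]

end Coch

end K497.Wgt
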